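import Mathlib

/-!
# A local criterion for normality

If `S ⊆ T` is integrally closed in an Artinian reduced ring `T` in which every element becomes
an element of `S` after multiplication by an element of `S` invertible in `T`, then all
localizations of `S` at primes are integrally closed domains.
-/

namespace Groth.Agent.Lib.Helper6.Normal

open Polynomial

variable {S T : Type*} [CommRing S] [CommRing T] [Algebra S T]

/-- Integral closedness passes to localizations. -/
lemma exists_of_isIntegral_localization (M : Submonoid S)
    (hcl : ∀ x : T, IsIntegral S x → ∃ s, algebraMap S T s = x)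
    (x : Localization (Algebra.algebraMapSubmonoid T M)) (hx : IsIntegral (Localization M) x) :
    ∃ a : Localization M, algebraMap (Localization M)
      (Localization (Algebra.algebraMapSubmonoid T M)) a = x := by
  obtain ⟨m, hm⟩ := IsIntegral.exists_multiple_integral_of_isLocalization M x hx
  obtain ⟨⟨t, ⟨_, m', hm', rfl⟩⟩, ht⟩ :=
    IsLocalization.surj (Algebra.algebraMapSubmonoid T M) (m • x)
  simp only at ht
  have h1 : IsIntegral S (algebraMap T (Localization (Algebra.algebraMapSubmonoid T M)) t) := by
    rw [← ht]
    refine hm.mul ?_
    rw [← IsScalarTower.algebraMap_apply]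
    exact isIntegral_algebraMap
  obtain ⟨m'', hm'', h2⟩ := IsLocalization.exists_isIntegral_smul_of_isIntegral_map
    (R := S) (S := T) (Sₘ := Localization (Algebra.algebraMapSubmonoid T M)) M h1
  obtain ⟨s, hs⟩ := hcl _ h2
  refine ⟨IsLocalization.mk' _ s ⟨m.1 * m' * m'', M.mul_mem (M.mul_mem m.2 hm') hm''⟩, ?_⟩
  have hu : IsUnit (algebraMap S (Localization (Algebra.algebraMapSubmonoid T M))
      (m.1 * m' * m'')) := by
    rw [IsScalarTower.algebraMap_apply S (Localization M)]
    exact (IsLocalization.map_units (Localization M)
      (⟨m.1 * m' * m'', M.mul_mem (M.mul_mem m.2 hm') hm''⟩ : M)).map _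
  apply hu.mul_left_cancel
  rw [IsScalarTower.algebraMap_apply S (Localization M), ← map_mul, IsLocalization.mk'_spec'_mk,
    ← IsScalarTower.algebraMap_apply, IsScalarTower.algebraMap_apply S T, hs,
    Algebra.smul_def, map_mul, ← ht, Submonoid.smul_def, Algebra.smul_def,
    ← IsScalarTower.algebraMap_apply, ← IsScalarTower.algebraMap_apply, map_mul, map_mul]
  simp only [← IsScalarTower.algebraMap_apply, map_mul]
  ring

/-- An Artinian reduced nontrivial ring with only trivial idempotents is a field. -/
lemma isField_of_trivial_idempotents {L : Type*} [CommRing L] [IsArtinianRing L] [IsReduced L]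
    [Nontrivial L] (h : ∀ e : L, IsIdempotentElem e → e = 0 ∨ e = 1) : IsField L := by
  refine ⟨exists_pair_ne L, mul_comm, ?_⟩
  intro a ha
  obtain ⟨n, b, hb⟩ := IsArtinian.exists_pow_succ_smul_dvd a (1 : L)
  simp only [smul_eq_mul, mul_one] at hb
  -- hb : a ^ (n+1) * b = a ^ n
  have h2n : a ^ n = a ^ (2 * n) * b ^ n := by
    have : ∀ k : ℕ, a ^ n = a ^ (n + k) * b ^ k := by
      intro k
      induction k with
      | zero => simp
      | succ k ih =>
        calc a ^ n = a ^ (n + k) * b ^ k := ih
          _ = a ^ k * a ^ n * b ^ k := by rw [pow_add]; ring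
          _ = a ^ k * (a ^ (n + 1) * b) * b ^ k := by rw [hb]
          _ = a ^ (n + (k + 1)) * b ^ (k + 1) := by ring
    rw [two_mul]; exact this n
  have hidem : IsIdempotentElem (a ^ n * b ^ n) := by
    unfold IsIdempotentElem
    calc a ^ n * b ^ n * (a ^ n * b ^ n) = (a ^ (2 * n) * b ^ n) * b ^ n := by ring
      _ = a ^ n * b ^ n := by rw [← h2n]
  rcases h _ hidem with h0 | h1
  · exfalso
    have : a ^ n = 0 := by
      calc a ^ n = a ^ (2 * n) * b ^ n := h2n
        _ = a ^ n * (a ^ n * b ^ n) := by ring
        _ = 0 := by rw [h0, mul_zero]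
    exact ha (IsReduced.eq_zero a ⟨n, this⟩)
  · rcases Nat.eq_zero_or_pos n with rfl | hn
    · refine ⟨b, ?_⟩
      simpa using hb
    · refine ⟨a ^ (n - 1) * b ^ n, ?_⟩
      calc a * (a ^ (n - 1) * b ^ n) = a ^ (n - 1 + 1) * b ^ n := by ring
        _ = a ^ n * b ^ n := by rw [Nat.sub_add_cancel hn]
        _ = 1 := h1

variable (S T) in
/-- The local criterion for normality. -/
theorem normal_at_prime
    (hinj : Function.Injective (algebraMap S T))
    (hcl : ∀ x : T, IsIntegral S x → ∃ s, algebraMap S T s = x)
    [IsArtinianRing T] [IsReduced T]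
    (hfrac : ∀ t : T, ∃ d : S, IsUnit (algebraMap S T d) ∧ ∃ s : S, algebraMap S T s = d • t)
    (q : Ideal S) [q.IsPrime] :
    IsDomain (Localization.AtPrime q) ∧ IsIntegrallyClosed (Localization.AtPrime q) := by
  have hALinj : Function.Injective (algebraMap (Localization q.primeCompl)
      (Localization (Algebra.algebraMapSubmonoid T q.primeCompl))) :=
    localizationAlgebra_injective _ _ hinj
  have hnt : Nontrivial (Localization (Algebra.algebraMapSubmonoid T q.primeCompl)) :=
    hALinj.nontrivial
  have hclL := exists_of_isIntegral_localization (T := T) q.primeCompl hcl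
  have hidem : ∀ e : Localization (Algebra.algebraMapSubmonoid T q.primeCompl),
      IsIdempotentElem e → e = 0 ∨ e = 1 := by
    intro e he
    have hint : IsIntegral (Localization q.primeCompl) e := by
      refine ⟨X ^ 2 - X, monic_X_pow_sub (by
        refine lt_of_le_of_lt degree_X_le ?_
        norm_num), ?_⟩
      simp only [eval₂_sub, eval₂_pow, eval₂_X]
      rw [pow_two, he.eq, sub_self]
    obtain ⟨a, rfl⟩ := hclL e hint
    have ha : a * a = a := by
      apply hALinj
      rw [map_mul]; exact he.eq
    have ha2 : a * (1 - a) = 0 := by rw [mul_sub, mul_one, ha, sub_self]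
    rcases IsLocalRing.isUnit_or_isUnit_one_sub_self a with hu | hu
    · right
      have : 1 - a = 0 := hu.mul_left_cancel (by rw [ha2, mul_zero])
      rw [← sub_eq_zero.mp this, map_one]
    · left
      have : a = 0 := hu.mul_right_cancel (by rw [ha2, zero_mul])
      rw [this, map_zero]
  have hfield : IsField (Localization (Algebra.algebraMapSubmonoid T q.primeCompl)) :=
    isField_of_trivial_idempotents hidem
  let _ : Field (Localization (Algebra.algebraMapSubmonoid T q.primeCompl)) := hfield.toField
  have hdom : IsDomain (Localization q.primeCompl) :=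
    hALinj.isDomain (algebraMap (Localization q.primeCompl)
      (Localization (Algebra.algebraMapSubmonoid T q.primeCompl)))
  refine ⟨hdom, ?_⟩
  have hfr : IsFractionRing (Localization q.primeCompl)
      (Localization (Algebra.algebraMapSubmonoid T q.primeCompl)) := by
    refine ⟨?_, ?_, ?_⟩
    · rintro ⟨y, hy⟩
      apply IsUnit.mk0
      intro h0
      have : y = 0 := hALinj (by rw [h0, map_zero])
      exact nonZeroDivisors.ne_zero hy this
    · intro z
      obtain ⟨⟨t, ⟨_, m, hm, rfl⟩⟩, ht⟩ :=
        IsLocalization.surj (Algebra.algebraMapSubmonoid T q.primeCompl) z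
      simp only at ht
      obtain ⟨d, hd, s, hs⟩ := hfrac t
      have hb : algebraMap (Localization q.primeCompl)
          (Localization (Algebra.algebraMapSubmonoid T q.primeCompl))
          (algebraMap S (Localization q.primeCompl) (d * m)) ≠ 0 := by
        rw [← IsScalarTower.algebraMap_apply, IsScalarTower.algebraMap_apply S T, map_mul, map_mul]
        apply mul_ne_zero
        · exact (hd.map _).ne_zero
        · exact (IsLocalization.map_units (Localization (Algebra.algebraMapSubmonoid T q.primeCompl))
            (⟨algebraMap S T m, m, hm, rfl⟩ : Algebra.algebraMapSubmonoid T q.primeCompl)).ne_zero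
      have hb0 : algebraMap S (Localization q.primeCompl) (d * m) ≠ 0 := by
        intro h0; rw [h0, map_zero] at hb; exact hb rfl
      refine ⟨⟨algebraMap S (Localization q.primeCompl) s,
        ⟨algebraMap S (Localization q.primeCompl) (d * m), mem_nonZeroDivisors_of_ne_zero hb0⟩⟩, ?_⟩
      simp only
      have e1 : algebraMap (Localization q.primeCompl)
          (Localization (Algebra.algebraMapSubmonoid T q.primeCompl))
          (algebraMap S (Localization q.primeCompl) (d * m)) =
          algebraMap T (Localization (Algebra.algebraMapSubmonoid T q.primeCompl))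
            (algebraMap S T d) *
          algebraMap T (Localization (Algebra.algebraMapSubmonoid T q.primeCompl))
            (algebraMap S T m) := by
        rw [← IsScalarTower.algebraMap_apply S (Localization q.primeCompl),
          IsScalarTower.algebraMap_apply S T, map_mul, map_mul]
      have e2 : algebraMap (Localization q.primeCompl)
          (Localization (Algebra.algebraMapSubmonoid T q.primeCompl))
          (algebraMap S (Localization q.primeCompl) s) =
          algebraMap T (Localization (Algebra.algebraMapSubmonoid T q.primeCompl))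
            (algebraMap S T d) *
          algebraMap T (Localization (Algebra.algebraMapSubmonoid T q.primeCompl)) t := by
        rw [← IsScalarTower.algebraMap_apply S (Localization q.primeCompl),
          IsScalarTower.algebraMap_apply S T, hs, Algebra.smul_def, map_mul]
      rw [e1, e2, ← ht]
      ring
    · intro a b hab
      exact ⟨1, by rw [hALinj hab]⟩
  rw [isIntegrallyClosed_iff_isIntegrallyClosedIn
    (Localization (Algebra.algebraMapSubmonoid T q.primeCompl)), isIntegrallyClosedIn_iff]
  exact ⟨hALinj, fun {x} hx => hclL x hx⟩

end Groth.Agent.Lib.Helper6.Normal
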