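import Mathlib
import Groth.Prelude.Def_EGA4b
import Groth.Agent.Lib.Helper6.Normal.Local

/-!
# Etale algebras over integrally closed domains are normal
-/

open TensorProduct

namespace Groth.Agent.Lib.Helper6.Normal

universe u
variable (R S : Type u) [CommRing R] [IsDomain R] [IsIntegrallyClosed R] [CommRing S]
  [Algebra R S] [Algebra.Etale R S]

lemma hcl_etale (x : S ⊗[R] FractionRing R) (hx : IsIntegral S x) :
    ∃ s, algebraMap S (S ⊗[R] FractionRing R) s = x := by
  obtain ⟨z, hz⟩ := (TensorProduct.toIntegralClosure_bijective_of_smooth (R := R) (S := S)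
    (B := FractionRing R)).2 ⟨x, hx⟩
  have key : ∀ z : S ⊗[R] integralClosure R (FractionRing R), ∃ s : S,
      algebraMap S (S ⊗[R] FractionRing R) s =
        (TensorProduct.toIntegralClosure R S (FractionRing R) z : S ⊗[R] FractionRing R) := by
    intro z
    induction z with
    | zero => exact ⟨0, by simp⟩
    | add a b ha hb =>
      obtain ⟨s1, h1⟩ := ha
      obtain ⟨s2, h2⟩ := hb
      exact ⟨s1 + s2, by rw [map_add, map_add, h1, h2]; rfl⟩
    | tmul s y =>
      obtain ⟨r, hr⟩ := IsIntegrallyClosed.algebraMap_eq_of_integral y.2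
      refine ⟨r • s, ?_⟩
      have h1 : (TensorProduct.toIntegralClosure R S (FractionRing R) (s ⊗ₜ y) :
          S ⊗[R] FractionRing R) = s ⊗ₜ (y : FractionRing R) := rfl
      rw [h1, ← hr, Algebra.TensorProduct.algebraMap_apply, Algebra.algebraMap_self,
        RingHom.id_apply, Algebra.algebraMap_eq_smul_one, TensorProduct.smul_tmul]
  obtain ⟨s, hs⟩ := key z
  exact ⟨s, by rw [hs, hz]⟩

lemma hfrac_etale (t : S ⊗[R] FractionRing R) :
    ∃ d : S, IsUnit (algebraMap S (S ⊗[R] FractionRing R) d) ∧
      ∃ s : S, algebraMap S (S ⊗[R] FractionRing R) s = d • t := by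
  have key : ∀ t : S ⊗[R] FractionRing R, ∃ r : R, r ≠ 0 ∧
      ∃ s : S, s ⊗ₜ[R] (1 : FractionRing R) = r • t := by
    intro t
    induction t with
    | zero => exact ⟨1, one_ne_zero, 0, by simp⟩
    | add a b ha hb =>
      obtain ⟨r1, hr1, s1, h1⟩ := ha
      obtain ⟨r2, hr2, s2, h2⟩ := hb
      refine ⟨r1 * r2, mul_ne_zero hr1 hr2, r2 • s1 + r1 • s2, ?_⟩
      rw [TensorProduct.add_tmul, ← TensorProduct.smul_tmul', ← TensorProduct.smul_tmul', h1, h2,
        smul_add, smul_smul, smul_smul, mul_comm r2 r1]
    | tmul s k =>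
      obtain ⟨⟨a, b⟩, hab⟩ := IsLocalization.surj (nonZeroDivisors R) k
      simp only at hab
      refine ⟨b.1, nonZeroDivisors.ne_zero b.2, a • s, ?_⟩
      rw [TensorProduct.smul_tmul' (r := b.1), TensorProduct.smul_tmul, TensorProduct.smul_tmul,
        Algebra.smul_def, mul_one, ← hab, Algebra.smul_def, mul_comm]
  obtain ⟨r, hr, s, hs⟩ := key t
  refine ⟨algebraMap R S r, ?_, s, ?_⟩
  · have h1 : algebraMap S (S ⊗[R] FractionRing R) (algebraMap R S r) =
        (Algebra.TensorProduct.includeRight : FractionRing R →ₐ[R] S ⊗[R] FractionRing R)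
          (algebraMap R (FractionRing R) r) := by
      rw [Algebra.TensorProduct.algebraMap_apply, Algebra.algebraMap_self, RingHom.id_apply,
        Algebra.TensorProduct.includeRight_apply, Algebra.algebraMap_eq_smul_one,
        Algebra.algebraMap_eq_smul_one (A := FractionRing R), TensorProduct.smul_tmul]
    rw [h1]
    exact (IsUnit.mk0 _ ((map_ne_zero_iff _ (IsFractionRing.injective R (FractionRing R))).mpr
      hr)).map _
  · rw [Algebra.TensorProduct.algebraMap_apply, Algebra.algebraMap_self, RingHom.id_apply, hs,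
      algebraMap_smul]

include R in
theorem isNormalRing_of_etale : EGA4.IsNormalRing S := by
  intro q _
  have hinj : Function.Injective (algebraMap S (S ⊗[R] FractionRing R)) :=
    Algebra.TensorProduct.includeLeft_injective (R := R) (S := S) (A := S) (B := FractionRing R)
      (IsFractionRing.injective R (FractionRing R))
  have hred' : IsReduced (FractionRing R ⊗[R] S) :=
    Algebra.FormallyUnramified.isReduced_of_field (FractionRing R) (FractionRing R ⊗[R] S)
  have hfin' : Module.Finite (FractionRing R) (FractionRing R ⊗[R] S) :=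
    Algebra.FormallyUnramified.finite_of_free (FractionRing R) _
  have hart' : IsArtinianRing (FractionRing R ⊗[R] S) :=
    IsArtinianRing.of_finite (FractionRing R) _
  have hred : IsReduced (S ⊗[R] FractionRing R) :=
    isReduced_of_injective (Algebra.TensorProduct.comm R S (FractionRing R)).toRingEquiv.toRingHom
      (Algebra.TensorProduct.comm R S (FractionRing R)).injective
  have hart : IsArtinianRing (S ⊗[R] FractionRing R) :=
    (Algebra.TensorProduct.comm R S (FractionRing R)).symm.toRingEquiv.isArtinianRing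
  exact normal_at_prime S (S ⊗[R] FractionRing R) hinj (hcl_etale R S) (hfrac_etale R S) q

end Groth.Agent.Lib.Helper6.Normal
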