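import Mathlib
import Groth.Prelude.Def_EGA4b
import Groth.Agent.Lib.Helper6.Normal.Etale

/-!
# Normality ascends along smooth ring maps
-/

open TensorProduct

namespace Groth.Agent.Lib.Helper6.Normal

universe u

/-- Polynomial rings over integrally closed domains are integrally closed. -/
lemma mvPolynomial_fin_isIntegrallyClosed (R : Type u) [CommRing R] [IsDomain R]
    [IsIntegrallyClosed R] (n : ℕ) : IsIntegrallyClosed (MvPolynomial (Fin n) R) := by
  induction n with
  | zero =>
    exact IsIntegrallyClosed.of_equiv (MvPolynomial.isEmptyAlgEquiv R (Fin 0)).symm.toRingEquiv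
  | succ n ih =>
    exact IsIntegrallyClosed.of_equiv (MvPolynomial.finSuccEquiv R n).symm.toRingEquiv

/-- Transfer of "integrally closed domain" between a localization at a prime of a localization
and the localization at the contracted prime. -/
lemma normalAt_of_isLocalization {B C : Type u} [CommRing B] [CommRing C] [Algebra B C]
    (N : Submonoid B) [IsLocalization N C] (Q : Ideal C) [Q.IsPrime] (q : Ideal B) [q.IsPrime]
    (hq : Q.comap (algebraMap B C) = q)
    (h : IsDomain (Localization.AtPrime Q) ∧ IsIntegrallyClosed (Localization.AtPrime Q)) :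
    IsDomain (Localization.AtPrime q) ∧ IsIntegrallyClosed (Localization.AtPrime q) := by
  subst hq
  have : IsScalarTower B C (Localization.AtPrime Q) := inferInstance
  have hloc : IsLocalization.AtPrime (Localization.AtPrime Q) (Q.comap (algebraMap B C)) :=
    IsLocalization.isLocalization_isLocalization_atPrime_isLocalization N _ Q
  let e : Localization.AtPrime (Q.comap (algebraMap B C)) ≃ₐ[B] Localization.AtPrime Q :=
    IsLocalization.algEquiv (Q.comap (algebraMap B C)).primeCompl _ _
  obtain ⟨h1, h2⟩ := h
  exact ⟨e.toRingEquiv.toMulEquiv.isDomain _, IsIntegrallyClosed.of_equiv e.symm.toRingEquiv⟩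

/-- Localizing away from an element outside a prime. -/
lemma normalAt_of_away {B : Type u} [CommRing B] (q : Ideal B) [q.IsPrime] (f : B) (hf : f ∉ q)
    (h : EGA4.IsNormalRing (Localization.Away f)) :
    IsDomain (Localization.AtPrime q) ∧ IsIntegrallyClosed (Localization.AtPrime q) := by
  have hdisj : Disjoint (Submonoid.powers f : Set B) (q : Set B) :=
    (Ideal.disjoint_powers_iff_notMem_of_isPrime _).mpr hf
  have hprime : (q.map (algebraMap B (Localization.Away f))).IsPrime :=
    IsLocalization.isPrime_of_isPrime_disjoint (.powers f) _ _ ‹_› hdisj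
  have hcomap : (q.map (algebraMap B (Localization.Away f))).comap
      (algebraMap B (Localization.Away f)) = q :=
    IsLocalization.under_map_of_isPrime_disjoint (.powers f) _ ‹_› hdisj
  exact normalAt_of_isLocalization (.powers f) _ q hcomap (h _)

/-- Smooth algebras over integrally closed domains are normal. -/
theorem normalAt_of_smooth (R B : Type u) [CommRing R] [IsDomain R] [IsIntegrallyClosed R]
    [CommRing B] [Algebra R B] [Algebra.Smooth R B] (q : Ideal B) [q.IsPrime] :
    IsDomain (Localization.AtPrime q) ∧ IsIntegrallyClosed (Localization.AtPrime q) := by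
  obtain ⟨f, hfq, n, _, _, _⟩ :=
    Algebra.IsSmoothAt.exists_isStandardEtale_mvPolynomial (R := R) (p := q)
  have : IsIntegrallyClosed (MvPolynomial (Fin n) R) := mvPolynomial_fin_isIntegrallyClosed R n
  have hN : EGA4.IsNormalRing (Localization.Away f) :=
    isNormalRing_of_etale (MvPolynomial (Fin n) R) (Localization.Away f)
  exact normalAt_of_away q f hfq hN

end Groth.Agent.Lib.Helper6.Normal

namespace Groth.Agent.Lib.Helper6.Normal

universe u

attribute [local instance] Algebra.TensorProduct.rightAlgebra in
/-- Normality ascends along smooth ring maps. -/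
theorem isNormalRing_of_smooth (A B : Type u) [CommRing A] [CommRing B] [Algebra A B]
    [Algebra.Smooth A B] (hA : EGA4.IsNormalRing A) : EGA4.IsNormalRing B := by
  intro q _
  have hp : (q.comap (algebraMap A B)).IsPrime := inferInstance
  obtain ⟨hdom, hic⟩ := hA (q.comap (algebraMap A B))
  have hpush : Algebra.IsPushout A B (Localization.AtPrime (q.comap (algebraMap A B)))
      (Localization.AtPrime (q.comap (algebraMap A B)) ⊗[A] B) := TensorProduct.isPushout'
  have hloc : IsLocalization
      (Algebra.algebraMapSubmonoid B (q.comap (algebraMap A B)).primeCompl)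
      (Localization.AtPrime (q.comap (algebraMap A B)) ⊗[A] B) :=
    (Algebra.isLocalization_iff_isPushout (q.comap (algebraMap A B)).primeCompl _).mpr hpush
  have hdisj : Disjoint
      (Algebra.algebraMapSubmonoid B (q.comap (algebraMap A B)).primeCompl : Set B) (q : Set B) := by
    rw [Set.disjoint_left]
    rintro _ ⟨a, ha, rfl⟩ hq
    exact ha hq
  have hprime : (q.map (algebraMap B
      (Localization.AtPrime (q.comap (algebraMap A B)) ⊗[A] B))).IsPrime :=
    IsLocalization.isPrime_of_isPrime_disjoint _ _ _ ‹_› hdisj
  have hcomap : (q.map (algebraMap B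
      (Localization.AtPrime (q.comap (algebraMap A B)) ⊗[A] B))).comap (algebraMap B _) = q :=
    IsLocalization.under_map_of_isPrime_disjoint
      (Algebra.algebraMapSubmonoid B (q.comap (algebraMap A B)).primeCompl) _ ‹q.IsPrime› hdisj
  have := normalAt_of_smooth (Localization.AtPrime (q.comap (algebraMap A B)))
    (Localization.AtPrime (q.comap (algebraMap A B)) ⊗[A] B)
    (q.map (algebraMap B (Localization.AtPrime (q.comap (algebraMap A B)) ⊗[A] B)))
  exact normalAt_of_isLocalization
    (Algebra.algebraMapSubmonoid B (q.comap (algebraMap A B)).primeCompl) _ q hcomap this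

end Groth.Agent.Lib.Helper6.Normal

namespace Groth.Agent.Lib.Helper6.Normal

universe u

/-- Descent of "integrally closed domain" along a faithfully flat map of rings. -/
lemma isIntegrallyClosed_of_faithfullyFlat (R S : Type u) [CommRing R] [CommRing S] [Algebra R S]
    [Module.FaithfullyFlat R S] [IsDomain S] [IsIntegrallyClosed S] :
    IsDomain R ∧ IsIntegrallyClosed R := by
  have hinj : Function.Injective (algebraMap R S) := FaithfulSMul.algebraMap_injective R S
  have hdom : IsDomain R := hinj.isDomain _
  refine ⟨hdom, ?_⟩
  rw [isIntegrallyClosed_iff (FractionRing R)]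
  intro x hx
  have : IsScalarTower R S (FractionRing S) := inferInstance
  have hinj2 : Function.Injective (Algebra.ofId R (FractionRing S)) := by
    show Function.Injective (algebraMap R (FractionRing S))
    rw [IsScalarTower.algebraMap_eq R S (FractionRing S)]
    exact (IsFractionRing.injective S (FractionRing S)).comp hinj
  let ψ : FractionRing R →ₐ[R] FractionRing S := IsFractionRing.liftAlgHom hinj2
  have h1 : IsIntegral R (ψ x) := hx.map ψ
  have h2 : IsIntegral S (ψ x) := h1.tower_top
  obtain ⟨c, hc⟩ := (isIntegrallyClosed_iff (FractionRing S)).mp ‹_› h2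
  obtain ⟨a, b, hb, rfl⟩ := IsFractionRing.div_surjective R x
  have hb0 : b ≠ 0 := nonZeroDivisors.ne_zero hb
  have hψa : ∀ r : R, ψ (algebraMap R (FractionRing R) r) =
      algebraMap S (FractionRing S) (algebraMap R S r) := fun r => by
    rw [AlgHom.commutes, IsScalarTower.algebraMap_apply R S (FractionRing S)]
  rw [map_div₀, hψa, hψa] at hc
  have hb1 : algebraMap S (FractionRing S) (algebraMap R S b) ≠ 0 := by
    rw [Ne, map_eq_zero_iff _ (IsFractionRing.injective S (FractionRing S)),
      map_eq_zero_iff _ hinj]
    exact hb0
  have hcb : c * algebraMap R S b = algebraMap R S a := by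
    apply IsFractionRing.injective S (FractionRing S)
    rw [map_mul, hc, div_mul_cancel₀ _ hb1]
  have hmem : a ∈ (Ideal.span {b} : Ideal R) := by
    rw [← Ideal.comap_map_eq_self_of_faithfullyFlat (B := S) (Ideal.span {b}), Ideal.mem_comap,
      Ideal.map_span, Set.image_singleton, Ideal.mem_span_singleton']
    exact ⟨c, hcb⟩
  obtain ⟨c', hc'⟩ := Ideal.mem_span_singleton'.mp hmem
  refine ⟨c', ?_⟩
  have hb2 : algebraMap R (FractionRing R) b ≠ 0 := by
    rw [Ne, map_eq_zero_iff _ (IsFractionRing.injective R (FractionRing R))]
    exact hb0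
  rw [eq_div_iff hb2, ← map_mul, hc']

/-- Normality descends along faithfully flat ring maps. -/
theorem isNormalRing_of_faithfullyFlat (A B : Type u) [CommRing A] [CommRing B] [Algebra A B]
    [Module.FaithfullyFlat A B] (hB : EGA4.IsNormalRing B) : EGA4.IsNormalRing A := by
  intro p _
  obtain ⟨⟨q, hqprime⟩, hq⟩ :=
    PrimeSpectrum.comap_surjective_of_faithfullyFlat (A := A) (B := B) ⟨p, inferInstance⟩
  have hpq : p = q.comap (algebraMap A B) := (congrArg PrimeSpectrum.asIdeal hq).symm
  obtain ⟨hBdom, hBic⟩ := hB q
  have hflat : (algebraMap A B).Flat := RingHom.flat_algebraMap_iff.mpr inferInstance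
  have hφflat := RingHom.Flat.localRingHom hflat q p hpq
  have hloc : IsLocalHom (Localization.localRingHom p q (algebraMap A B) hpq) :=
    Localization.isLocalHom_localRingHom p q (algebraMap A B) hpq
  algebraize [Localization.localRingHom p q (algebraMap A B) hpq]
  have hff : Module.FaithfullyFlat (Localization.AtPrime p) (Localization.AtPrime q) :=
    Module.FaithfullyFlat.of_flat_of_isLocalHom
  exact isIntegrallyClosed_of_faithfullyFlat (Localization.AtPrime p) (Localization.AtPrime q)

end Groth.Agent.Lib.Helper6.Normal
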