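import Mathlib
import Groth.Prelude.Def_EGA4b
import Groth.Prelude.Def_Pi1
import Groth.Agent.Lib.Helper6.Normal.Smooth
import Groth.Agent.Lib.Helper6.SchDense.Assoc

/-!
# Normal schemes: smooth ascent
-/

open CategoryTheory AlgebraicGeometry

namespace Groth.Agent.Lib.Helper6.Normal

universe u

/-- Transfer of "integrally closed domain" to any localization at a prime. -/
lemma normalAt_of_isLocalizationAtPrime {A L : Type u} [CommRing A] [CommRing L] [Algebra A L]
    (p : Ideal A) [p.IsPrime] [IsLocalization.AtPrime L p] :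
    (IsDomain L ∧ IsIntegrallyClosed L) ↔
      (IsDomain (Localization.AtPrime p) ∧ IsIntegrallyClosed (Localization.AtPrime p)) := by
  let e : Localization.AtPrime p ≃ₐ[A] L := IsLocalization.algEquiv p.primeCompl _ _
  constructor
  · rintro ⟨h1, h2⟩
    exact ⟨e.toRingEquiv.toMulEquiv.isDomain _, IsIntegrallyClosed.of_equiv e.symm.toRingEquiv⟩
  · rintro ⟨h1, h2⟩
    exact ⟨e.symm.toRingEquiv.toMulEquiv.isDomain _, IsIntegrallyClosed.of_equiv e.toRingEquiv⟩

lemma stalk_normal_iff {X : Scheme.{u}} {W : X.Opens} (hW : IsAffineOpen W) (x : X) (hx : x ∈ W) :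
    (IsDomain (X.presheaf.stalk x) ∧ IsIntegrallyClosed (X.presheaf.stalk x)) ↔
      (IsDomain (Localization.AtPrime (hW.primeIdealOf ⟨x, hx⟩).asIdeal) ∧
        IsIntegrallyClosed (Localization.AtPrime (hW.primeIdealOf ⟨x, hx⟩).asIdeal)) := by
  let _ := X.presheaf.algebra_section_stalk ⟨x, hx⟩
  have := hW.isLocalization_stalk ⟨x, hx⟩
  exact normalAt_of_isLocalizationAtPrime (hW.primeIdealOf ⟨x, hx⟩).asIdeal

lemma isNormalRing_iff_affine {X : Scheme.{u}} {W : X.Opens} (hW : IsAffineOpen W) :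
    EGA4.IsNormalRing Γ(X, W) ↔
      ∀ x ∈ W, IsDomain (X.presheaf.stalk x) ∧ IsIntegrallyClosed (X.presheaf.stalk x) := by
  constructor
  · intro h x hx
    rw [stalk_normal_iff hW x hx]
    exact h _
  · intro h p hp
    have hxW : hW.fromSpec ⟨p, hp⟩ ∈ W := by
      have h1 : hW.fromSpec ⟨p, hp⟩ ∈ Set.range hW.fromSpec := ⟨_, rfl⟩
      rw [hW.range_fromSpec] at h1
      exact h1
    have := (stalk_normal_iff hW _ hxW).mp (h _ hxW)
    rw [SchDense.primeIdealOf_fromSpec] at this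
    exact this

/-- The source of a smooth morphism with normal target is normal. -/
theorem isNormalScheme_of_smooth {X Y : Scheme.{u}} (f : Y ⟶ X) [Smooth f]
    (hX : Pi1.IsNormalScheme X) : Pi1.IsNormalScheme Y := by
  intro y
  obtain ⟨_, ⟨V, hV : IsAffineOpen V, rfl⟩, hxV, -⟩ :=
    X.isBasis_affineOpens.exists_subset_of_mem_open (Set.mem_univ (f y)) isOpen_univ
  obtain ⟨_, ⟨U, hU : IsAffineOpen U, rfl⟩, hyU, hUV : U ≤ f ⁻¹ᵁ V⟩ :=
    Y.isBasis_affineOpens.exists_subset_of_mem_open (show y ∈ f ⁻¹ᵁ V from hxV) (f ⁻¹ᵁ V).isOpen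
  have hsm : (f.appLE V U hUV).hom.Smooth :=
    HasRingHomProperty.appLE (P := @Smooth) f inferInstance ⟨V, hV⟩ ⟨U, hU⟩ hUV
  let _ : Algebra Γ(X, V) Γ(Y, U) := (f.appLE V U hUV).hom.toAlgebra
  have hsm' : Algebra.Smooth Γ(X, V) Γ(Y, U) := hsm
  have hA : EGA4.IsNormalRing Γ(X, V) := (isNormalRing_iff_affine hV).mpr fun x _ => hX x
  have hB : EGA4.IsNormalRing Γ(Y, U) := isNormalRing_of_smooth _ _ hA
  exact (isNormalRing_iff_affine hU).mp hB y hyU

end Groth.Agent.Lib.Helper6.Normal
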