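import Mathlib
import Groth.Prelude.Def_EGA4b

/-!
# Elementwise characterisation of normal rings and directed unions
-/

open Polynomial

namespace Groth.Agent.Lib.Helper6.Normal

universe u

/-- Elementwise form of "all localizations at primes are domains". -/
def N1 (R : Type*) [CommRing R] : Prop :=
  ∀ a b : R, a * b = 0 → ∃ s t : R, s * a = 0 ∧ t * b = 0 ∧ s + t = 1

/-- Elementwise form of "all localizations at primes are integrally closed". -/
def N2 (R : Type*) [CommRing R] : Prop :=
  ∀ (a b : R) (p : R[X]), p.Monic → (p.scaleRoots b).eval a = 0 →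
    ∃ s t c : R, s * b = 0 ∧ t * a = c * b ∧ s + t = 1

section ToElementwise

variable {R : Type u} [CommRing R]

/-- The annihilator of an element, as an ideal. -/
def annI (a : R) : Ideal R where
  carrier := {x | x * a = 0}
  add_mem' := by
    intro x y hx hy
    simp only [Set.mem_ofPred_eq] at hx hy ⊢
    rw [add_mul, hx, hy, add_zero]
  zero_mem' := by simp
  smul_mem' := by
    intro c x hx
    simp only [Set.mem_ofPred_eq, smul_eq_mul] at hx ⊢
    rw [mul_assoc, hx, mul_zero]

lemma mem_annI {a x : R} : x ∈ annI a ↔ x * a = 0 := Iff.rfl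

/-- The colon ideal `(b : a)`. -/
def colonI (a b : R) : Ideal R where
  carrier := {x | ∃ c, x * a = c * b}
  add_mem' := by
    rintro x y ⟨c, hc⟩ ⟨d, hd⟩
    exact ⟨c + d, by rw [add_mul, add_mul, hc, hd]⟩
  zero_mem' := ⟨0, by simp⟩
  smul_mem' := by
    rintro e x ⟨c, hc⟩
    exact ⟨e * c, by rw [smul_eq_mul, mul_assoc, hc, mul_assoc]⟩

lemma mem_colonI {a b x : R} : x ∈ colonI a b ↔ ∃ c, x * a = c * b := Iff.rfl

theorem n1_of_isNormalRing (hR : EGA4.IsNormalRing R) : N1 R := by
  intro a b hab
  set I : Ideal R := annI a ⊔ annI b with hI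
  have htop : I = ⊤ := by
    by_contra hne
    obtain ⟨m, hm, hIm⟩ := Ideal.exists_le_maximal I hne
    have hmp : m.IsPrime := hm.isPrime
    obtain ⟨hdom, -⟩ := hR m
    have h0 : algebraMap R (Localization.AtPrime m) a * algebraMap R (Localization.AtPrime m) b
        = 0 := by rw [← map_mul, hab, map_zero]
    rcases mul_eq_zero.mp h0 with h | h
    · obtain ⟨s, hs⟩ := (IsLocalization.map_eq_zero_iff m.primeCompl _ a).mp h
      have : (s : R) ∈ I := Ideal.mem_sup_left (mem_annI.mpr hs)
      exact s.2 (hIm this)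
    · obtain ⟨s, hs⟩ := (IsLocalization.map_eq_zero_iff m.primeCompl _ b).mp h
      have : (s : R) ∈ I := Ideal.mem_sup_right (mem_annI.mpr hs)
      exact s.2 (hIm this)
  have h1 : (1 : R) ∈ I := htop ▸ Submodule.mem_top
  obtain ⟨s, hs, t, ht, hst⟩ := Submodule.mem_sup.mp h1
  exact ⟨s, t, mem_annI.mp hs,
    mem_annI.mp ht, hst⟩

theorem n2_of_isNormalRing (hR : EGA4.IsNormalRing R) : N2 R := by
  intro a b p hp hab
  set I : Ideal R := annI b ⊔ colonI a b
    with hI
  have htop : I = ⊤ := by
    by_contra hne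
    obtain ⟨m, hm, hIm⟩ := Ideal.exists_le_maximal I hne
    have hmp : m.IsPrime := hm.isPrime
    obtain ⟨hdom, hic⟩ := hR m
    let D := Localization.AtPrime m
    let K := FractionRing D
    let f : R →+* D := algebraMap R D
    let g : D →+* K := algebraMap D K
    by_cases hb : f b = 0
    · obtain ⟨s, hs⟩ := (IsLocalization.map_eq_zero_iff m.primeCompl _ b).mp hb
      have : (s : R) ∈ I := Ideal.mem_sup_left (mem_annI.mpr hs)
      exact s.2 (hIm this)
    · have hpm : (p.map f).Monic := hp.map f
      have hgb : g (f b) ≠ 0 :=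
        (map_ne_zero_iff _ (IsFractionRing.injective D K)).mpr hb
      have h1 : ((p.map f).scaleRoots (f b)).eval (f a) = 0 := by
        rw [← map_scaleRoots p b f (by rw [hp.leadingCoeff, map_one]; exact one_ne_zero),
          eval_map, eval₂_at_apply, hab, map_zero]
      have h2 : eval₂ g (g (f a) / g (f b)) (p.map f) = 0 := by
        have h3 := scaleRoots_eval₂_mul (p := p.map f) g (g (f a) / g (f b)) (f b)
        rw [mul_div_cancel₀ _ hgb, eval₂_at_apply, h1, map_zero] at h3
        rcases mul_eq_zero.mp h3.symm with h | h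
        · exact absurd (pow_eq_zero_iff (by
            intro hn
            rw [hn] at h
            simp at h) |>.mp h) hgb
        · exact h
      have hint : IsIntegral D (g (f a) / g (f b)) := ⟨p.map f, hpm, h2⟩
      obtain ⟨c', hc'⟩ := IsIntegrallyClosed.isIntegral_iff.mp hint
      have h4 : f a = c' * f b := by
        apply IsFractionRing.injective D K
        rw [map_mul]
        change g (f a) = g c' * g (f b)
        rw [show g c' = g (f a) / g (f b) from hc', div_mul_cancel₀ _ hgb]
      obtain ⟨c, t, rfl⟩ := IsLocalization.exists_mk'_eq m.primeCompl c'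
      have h5 : f ((t : R) * a) = f (c * b) := by
        rw [map_mul, map_mul, h4, ← mul_assoc, mul_comm (f (t : R)),
          IsLocalization.mk'_spec]
      obtain ⟨v, hv⟩ := (IsLocalization.eq_iff_exists m.primeCompl D).mp h5
      have hmem : (v : R) * t ∈ I := by
        apply Ideal.mem_sup_right
        exact ⟨v * c, by rw [mul_assoc, mul_assoc, hv]⟩
      exact (m.primeCompl.mul_mem v.2 t.2) (hIm hmem)
  have h1 : (1 : R) ∈ I := htop ▸ Submodule.mem_top
  obtain ⟨s, hs, t, ht, hst⟩ := Submodule.mem_sup.mp h1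
  obtain ⟨c, hc⟩ := ht
  exact ⟨s, t, c, mem_annI.mp hs, hc, hst⟩

end ToElementwise

section Union

variable {R : Type*} [CommRing R] {ι : Type*} (Ri : ι → Type*) [∀ i, CommRing (Ri i)]
  (φ : ∀ i, Ri i →+* R) (hinj : ∀ i, Function.Injective (φ i))
  (hfin : ∀ s : Finset R, ∃ i, (s : Set R) ⊆ Set.range (φ i))

include hinj hfin

theorem n1_of_union (h : ∀ i, N1 (Ri i)) : N1 R := by
  classical
  intro a b hab
  obtain ⟨i, hi⟩ := hfin {a, b}
  have ha := hi (by simp : a ∈ (({a, b} : Finset R) : Set R))
  have hb := hi (by simp : b ∈ (({a, b} : Finset R) : Set R))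
  obtain ⟨a', rfl⟩ := ha
  obtain ⟨b', rfl⟩ := hb
  have hab' : a' * b' = 0 := hinj i (by rw [map_mul, hab, map_zero])
  obtain ⟨s, t, hs, ht, hst⟩ := h i a' b' hab'
  exact ⟨φ i s, φ i t, by rw [← map_mul, hs, map_zero], by rw [← map_mul, ht, map_zero],
    by rw [← map_add, hst, map_one]⟩

theorem n2_of_union (h : ∀ i, N2 (Ri i)) : N2 R := by
  classical
  intro a b p hp hab
  rcases subsingleton_or_nontrivial R with hR | hR
  · exact ⟨0, 0, 0, Subsingleton.elim _ _, Subsingleton.elim _ _, Subsingleton.elim _ _⟩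
  obtain ⟨i, hi⟩ := hfin ({a, b} ∪ p.coeffs)
  have ha := hi (by simp : a ∈ ((({a, b} : Finset R) ∪ p.coeffs : Finset R) : Set R))
  have hb := hi (by simp : b ∈ ((({a, b} : Finset R) ∪ p.coeffs : Finset R) : Set R))
  obtain ⟨a', rfl⟩ := ha
  obtain ⟨b', rfl⟩ := hb
  have hpl : p ∈ Polynomial.lifts (φ i) := by
    rw [Polynomial.lifts_iff_coeffs_subset_range]
    intro c hc
    exact hi (by
      simp only [Finset.coe_union, Set.mem_union]
      exact Or.inr hc)
  obtain ⟨q, rfl, -, hq⟩ := Polynomial.lifts_and_natDegree_eq_and_monic hpl hp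
  have hab' : (q.scaleRoots b').eval a' = 0 := by
    apply hinj i
    rw [map_zero, ← hab,
      ← map_scaleRoots q b' (φ i) (by rw [hq.leadingCoeff, map_one]; exact one_ne_zero),
      eval_map, eval₂_at_apply]
  obtain ⟨s, t, c, hs, ht, hst⟩ := h i a' b' q hq hab'
  exact ⟨φ i s, φ i t, φ i c, by rw [← map_mul, hs, map_zero],
    by rw [← map_mul, ht, map_mul], by rw [← map_add, hst, map_one]⟩

end Union

section FromElementwise

variable {R : Type u} [CommRing R]

theorem isDomain_localization_of_n1 (h1 : N1 R) (m : Ideal R) [m.IsPrime] :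
    IsDomain (Localization.AtPrime m) := by
  have hnz : NoZeroDivisors (Localization.AtPrime m) := by
    refine ⟨fun {x y} hxy => ?_⟩
    obtain ⟨a, s, rfl⟩ := IsLocalization.exists_mk'_eq m.primeCompl x
    obtain ⟨b, t, rfl⟩ := IsLocalization.exists_mk'_eq m.primeCompl y
    rw [← IsLocalization.mk'_mul, IsLocalization.mk'_eq_zero_iff] at hxy
    obtain ⟨u, hu⟩ := hxy
    obtain ⟨s', t', hs', ht', hst⟩ := h1 ((u : R) * a) b (by rw [mul_assoc]; exact hu)
    by_cases hsm : s' ∈ m
    · have htm : t' ∉ m := by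
        intro htm
        have : (1 : R) ∈ m := hst ▸ m.add_mem hsm htm
        exact (Ideal.IsPrime.ne_top ‹_›) ((Ideal.eq_top_iff_one m).mpr this)
      right
      rw [IsLocalization.mk'_eq_zero_iff]
      exact ⟨⟨t', htm⟩, ht'⟩
    · left
      rw [IsLocalization.mk'_eq_zero_iff]
      exact ⟨⟨s', hsm⟩ * u, by
        rw [Submonoid.coe_mul, mul_assoc]
        exact hs'⟩
  exact NoZeroDivisors.to_isDomain _

theorem isIntegrallyClosed_localization_of_n2 (h2 : N2 R) (m : Ideal R) [m.IsPrime]
    [IsDomain (Localization.AtPrime m)] : IsIntegrallyClosed (Localization.AtPrime m) := by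
  let D := Localization.AtPrime m
  let K := FractionRing D
  let f : R →+* D := algebraMap R D
  let g : D →+* K := algebraMap D K
  have hginj : Function.Injective g := IsFractionRing.injective D K
  rw [isIntegrallyClosed_iff K]
  intro x hx
  -- clear denominators of the integrality equation
  obtain ⟨mm, hmx⟩ := IsIntegral.exists_multiple_integral_of_isLocalization m.primeCompl x hx
  obtain ⟨p, hp, hpx⟩ := hmx
  -- write `mm • x` as a fraction of elements of `R`
  obtain ⟨α, β, hβ, hαβ⟩ := IsFractionRing.div_surjective (A := D) (mm • x)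
  obtain ⟨a, s, rfl⟩ := IsLocalization.exists_mk'_eq m.primeCompl α
  obtain ⟨b, t, rfl⟩ := IsLocalization.exists_mk'_eq m.primeCompl β
  have hβ0 : IsLocalization.mk' D b t ≠ 0 := nonZeroDivisors.ne_zero hβ
  have hgβ0 : g (IsLocalization.mk' D b t) ≠ 0 := (map_ne_zero_iff _ hginj).mpr hβ0
  set y : K := mm • x with hy
  -- y * g (f (b * s)) = g (f (a * t))
  have hfs : ∀ s : m.primeCompl, IsUnit (f s) := fun s => IsLocalization.map_units D s
  have hb0 : f b ≠ 0 := by
    intro hb
    apply hβ0
    rw [IsLocalization.mk'_eq_zero_iff]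
    obtain ⟨v, hv⟩ := (IsLocalization.map_eq_zero_iff m.primeCompl D b).mp hb
    exact ⟨v, hv⟩
  have hgfb : g (f (b * s)) ≠ 0 := by
    rw [map_mul, map_mul]
    exact mul_ne_zero ((map_ne_zero_iff _ hginj).mpr hb0)
      ((map_ne_zero_iff _ hginj).mpr (hfs s).ne_zero)
  have hy1 : g (f (b * s)) * y = g (f (a * t)) := by
    have e1 : g (IsLocalization.mk' D a s) = y * g (IsLocalization.mk' D b t) := by
      change algebraMap D K _ = y * algebraMap D K _
      rw [← hαβ, div_mul_cancel₀ _ hgβ0]
    have e2 : IsLocalization.mk' D a s * f s = f a := IsLocalization.mk'_spec D a s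
    have e3 : IsLocalization.mk' D b t * f t = f b := IsLocalization.mk'_spec D b t
    calc g (f (b * s)) * y = y * g (IsLocalization.mk' D b t) * g (f t) * g (f s) := by
          rw [map_mul, map_mul, ← e3, map_mul]; ring
      _ = g (IsLocalization.mk' D a s) * g (f s) * g (f t) := by rw [← e1]; ring
      _ = g (f (a * t)) := by rw [← map_mul, e2, ← map_mul, ← map_mul]
  -- the homogenised equation holds in `K`, hence in `D`, hence in `R` up to a unit
  have hK : g (f ((p.scaleRoots (b * s)).eval (a * t))) = 0 := by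
    have h3 := scaleRoots_eval₂_mul (p := p) (g.comp f) y (b * s)
    have hpx' : eval₂ (g.comp f) y p = 0 := hpx
    rw [hpx', mul_zero, RingHom.comp_apply, hy1, ← RingHom.comp_apply, eval₂_at_apply] at h3
    exact h3
  have hD : f ((p.scaleRoots (b * s)).eval (a * t)) = 0 := hginj (by rw [hK, map_zero])
  obtain ⟨u, hu⟩ := (IsLocalization.map_eq_zero_iff m.primeCompl D _).mp hD
  have hn : p.natDegree ≠ 0 := by
    intro hn
    have hp1 : p = 1 := eq_one_of_monic_natDegree_zero hp hn
    rw [hp1] at hpx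
    simp at hpx
  have hR : ((p.scaleRoots ((b * s) * u)).eval (u * (a * t))) = 0 := by
    rw [scaleRoots_mul, scaleRoots_eval_mul, natDegree_scaleRoots]
    obtain ⟨n, hn'⟩ := Nat.exists_eq_succ_of_ne_zero hn
    rw [hn', pow_succ, mul_assoc, hu, mul_zero]
  obtain ⟨s', t', c, hs', ht', hst⟩ := h2 _ _ p hp hR
  have hsm : s' ∈ m := by
    by_contra hsm
    apply hgfb
    have : f (b * s) = 0 := by
      rw [IsLocalization.map_eq_zero_iff m.primeCompl D]
      exact ⟨⟨s', hsm⟩ * u, by
        rw [Submonoid.coe_mul]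
        calc s' * (u : R) * (b * s) = s' * (b * s * u) := by ring
          _ = 0 := hs'⟩
    rw [this, map_zero]
  have htm : t' ∉ m := by
    intro htm
    have : (1 : R) ∈ m := hst ▸ m.add_mem hsm htm
    exact (Ideal.IsPrime.ne_top ‹_›) ((Ideal.eq_top_iff_one m).mpr this)
  -- conclusion
  have hgu : g (f u) ≠ 0 := (map_ne_zero_iff _ hginj).mpr (hfs u).ne_zero
  have hgt : g (f t') ≠ 0 := (map_ne_zero_iff _ hginj).mpr (hfs ⟨t', htm⟩).ne_zero
  have hgm : g (f mm) ≠ 0 := (map_ne_zero_iff _ hginj).mpr (hfs mm).ne_zero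
  have hrel : g (f t') * g (f (a * t)) = g (f c) * g (f (b * s)) := by
    have := congrArg (fun z => g (f z)) ht'
    simp only [map_mul] at this ⊢
    have h' : g (f u) * (g (f t') * (g (f a) * g (f t))) =
        g (f u) * (g (f c) * (g (f b) * g (f s))) := by
      calc _ = g (f t') * (g (f u) * (g (f a) * g (f t))) := by ring
        _ = g (f c) * (g (f b) * g (f s) * g (f u)) := this
        _ = _ := by ring
    exact mul_left_cancel₀ hgu h'
  have hyc : y = g (f c) / g (f t') := by
    rw [eq_div_iff hgt]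
    have : g (f (b * s)) * (y * g (f t')) = g (f (b * s)) * g (f c) := by
      calc _ = g (f t') * (g (f (b * s)) * y) := by ring
        _ = g (f t') * g (f (a * t)) := by rw [hy1]
        _ = _ := by rw [hrel]; ring
    exact mul_left_cancel₀ hgfb this
  have hxy : y = g (f mm) * x := by
    rw [hy, Submonoid.smul_def, Algebra.smul_def]
    rfl
  refine ⟨IsLocalization.mk' D c (⟨t', htm⟩ * mm), ?_⟩
  have e4 : IsLocalization.mk' D c (⟨t', htm⟩ * mm) * f ((⟨t', htm⟩ * mm : m.primeCompl) : R)
      = f c := IsLocalization.mk'_spec D c _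
  have e5 : g (IsLocalization.mk' D c (⟨t', htm⟩ * mm)) * (g (f t') * g (f mm)) = g (f c) := by
    rw [← e4, map_mul, Submonoid.coe_mul, map_mul, map_mul]
  change g _ = x
  have : g (f c) = x * (g (f t') * g (f mm)) := by
    have h6 : g (f mm) * x = g (f c) / g (f t') := by rw [← hxy, hyc]
    rw [eq_div_iff hgt] at h6
    rw [← h6]; ring
  rw [this] at e5
  exact mul_right_cancel₀ (mul_ne_zero hgt hgm) e5

theorem isNormalRing_of_n1_n2 (h1 : N1 R) (h2 : N2 R) : EGA4.IsNormalRing R := by
  intro m _
  have := isDomain_localization_of_n1 h1 m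
  exact ⟨this, isIntegrallyClosed_localization_of_n2 h2 m⟩

end FromElementwise

/-- A ring which is a directed union of normal subrings is normal. -/
theorem isNormalRing_of_union {R : Type u} [CommRing R] {ι : Type*} (Ri : ι → Type u)
    [∀ i, CommRing (Ri i)]
    (φ : ∀ i, Ri i →+* R) (hinj : ∀ i, Function.Injective (φ i))
    (hfin : ∀ s : Finset R, ∃ i, (s : Set R) ⊆ Set.range (φ i))
    (h : ∀ i, EGA4.IsNormalRing (Ri i)) : EGA4.IsNormalRing R :=
  isNormalRing_of_n1_n2
    (n1_of_union Ri φ hinj hfin fun i => n1_of_isNormalRing (h i))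
    (n2_of_union Ri φ hinj hfin fun i => n2_of_isNormalRing (h i))

end Groth.Agent.Lib.Helper6.Normal
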