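import Mathlib
import Groth.Prelude.Def_EGA4b
import Groth.Agent.Lib.Helper6.Normal.Elementwise
import Groth.Agent.Lib.Helper6.Normal.Smooth

/-!
# Base change of normal rings along geometrically reduced field extensions
-/

open TensorProduct

namespace Groth.Agent.Lib.Helper6.Normal

universe u

theorem isNormalRing_of_ringEquiv {R S : Type u} [CommRing R] [CommRing S] (e : R ≃+* S)
    (hR : EGA4.IsNormalRing R) : EGA4.IsNormalRing S := by
  letI : Algebra R S := e.toRingHom.toAlgebra
  have : Algebra.Smooth R S :=
    Algebra.Smooth.of_equiv (AlgEquiv.ofRingEquiv (f := e) (fun x => rfl))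
  exact isNormalRing_of_smooth R S hR

theorem isNormalRing_of_isLocalization {B C : Type u} [CommRing B] [CommRing C] [Algebra B C]
    (N : Submonoid B) [IsLocalization N C] (hB : EGA4.IsNormalRing B) : EGA4.IsNormalRing C := by
  intro Q _
  have hloc : IsLocalization.AtPrime (Localization.AtPrime Q) (Q.comap (algebraMap B C)) :=
    IsLocalization.isLocalization_isLocalization_atPrime_isLocalization N _ Q
  let e : Localization.AtPrime (Q.comap (algebraMap B C)) ≃ₐ[B] Localization.AtPrime Q :=
    IsLocalization.algEquiv (Q.comap (algebraMap B C)).primeCompl _ _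
  obtain ⟨h1, h2⟩ := hB (Q.comap (algebraMap B C))
  exact ⟨e.symm.toRingEquiv.toMulEquiv.isDomain _, IsIntegrallyClosed.of_equiv e.toRingEquiv⟩

theorem linearIndepOn_pow_of_isGeometricallyReduced (k K : Type u) [Field k] [Field K]
    [Algebra k K] [Algebra.IsGeometricallyReduced k K] (p : ℕ) (hp : p.Prime) [ExpChar k p]
    (s : Finset K) (hs : LinearIndepOn k id (s : Set K)) :
    LinearIndepOn k (· ^ p) (s : Set K) := by
  classical
  let L := AlgebraicClosure k
  have hred : IsReduced (L ⊗[k] K) :=
    (Algebra.isGeometricallyReduced_field_iff k K).mp inferInstance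
  have hL : ExpChar L p := expChar_of_injective_algebraMap (algebraMap k L).injective p
  have hinjL : Function.Injective (algebraMap L (L ⊗[k] K)) :=
    Algebra.TensorProduct.includeLeft_injective (R := k) (S := L) (A := L) (B := K)
      (algebraMap k K).injective
  have hT : ExpChar (L ⊗[k] K) p := expChar_of_injective_algebraMap hinjL p
  rw [LinearIndepOn, Fintype.linearIndependent_iff]
  intro c hc i
  have hd : ∀ i, ∃ d : L, d ^ p = algebraMap k L (c i) :=
    fun i => IsAlgClosed.exists_pow_nat_eq _ hp.pos
  choose d hd using hd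
  have hξp : (∑ i : (s : Set K), d i ⊗ₜ[k] (i : K)) ^ p = 0 := by
    rw [sum_pow_char]
    have : ∀ i : (s : Set K), (d i ⊗ₜ[k] (i : K)) ^ p = (1 : L) ⊗ₜ[k] (c i • (i : K) ^ p) := by
      intro i
      rw [Algebra.TensorProduct.tmul_pow, hd, Algebra.algebraMap_eq_smul_one,
        TensorProduct.smul_tmul]
    simp_rw [this]
    rw [← TensorProduct.tmul_sum, hc, TensorProduct.tmul_zero]
  have hξ : (∑ i : (s : Set K), d i ⊗ₜ[k] (i : K)) = 0 := IsReduced.eq_zero _ ⟨p, hξp⟩
  have hli := Module.Flat.linearIndependent_one_tmul (S := L) hs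
  rw [Fintype.linearIndependent_iff] at hli
  have hdi : d i = 0 := by
    refine hli d ?_ i
    rw [← hξ]
    refine Finset.sum_congr rfl fun j _ => ?_
    rw [TensorProduct.smul_tmul', smul_eq_mul, mul_one]
    rfl
  have := hd i
  rw [hdi, zero_pow hp.ne_zero] at this
  exact (map_eq_zero_iff _ (algebraMap k L).injective).mp this.symm

theorem exists_sepGen (k K : Type u) [Field k] [Field K] [Algebra k K]
    [Algebra.IsGeometricallyReduced k K] [Algebra.EssFiniteType k K] :
    ∃ s : Finset K, IsTranscendenceBasis k ((↑) : s → K) ∧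
      Algebra.IsSeparable (IntermediateField.adjoin k (s : Set K)) K := by
  obtain _ | ⟨p, hp, hpk⟩ := CharP.exists' k
  · exact exists_isTranscendenceBasis_and_isSeparable_of_perfectField k K
  · have : ExpChar k p := .prime hp.out
    exact exists_isTranscendenceBasis_and_isSeparable_of_linearIndepOn_pow_of_essFiniteType p
      hp.out (fun s hs => linearIndepOn_pow_of_isGeometricallyReduced k K p hp.out s hs)

section SepGen

open scoped IntermediateField.algebraAdjoinAdjoin

variable (k K A : Type u) [Field k] [Field K] [Algebra k K] [CommRing A] [Algebra k A]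

/-- Polynomial-ring step: `P ⊗[k] A` is normal when `P` is generated by algebraically independent
elements. -/
theorem isNormalRing_adjoin_tensor (hA : EGA4.IsNormalRing A) {ι : Type u} [Finite ι]
    (x : ι → K) (hx : AlgebraicIndependent k x) :
    EGA4.IsNormalRing (Algebra.adjoin k (Set.range x) ⊗[k] A) := by
  have hsm0 : Algebra.Smooth k (MvPolynomial ι k) := ⟨inferInstance, inferInstance⟩
  have hsm : Algebra.Smooth k (Algebra.adjoin k (Set.range x)) :=
    Algebra.Smooth.of_equiv hx.aevalEquiv
  have h1 : EGA4.IsNormalRing (A ⊗[k] Algebra.adjoin k (Set.range x)) :=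
    isNormalRing_of_smooth A _ hA
  exact isNormalRing_of_ringEquiv
    (Algebra.TensorProduct.comm k A (Algebra.adjoin k (Set.range x))).toRingEquiv h1

/-- Localization step. -/
theorem isNormalRing_tensor_of_isLocalization (P E : Type u) [CommRing P] [CommRing E]
    [Algebra k P] [Algebra k E] [Algebra P E] [IsScalarTower k P E] (M : Submonoid P)
    [IsLocalization M E] (h : EGA4.IsNormalRing (P ⊗[k] A)) :
    EGA4.IsNormalRing (E ⊗[k] A) := by
  let ψ : P ⊗[k] A →ₐ[k] E ⊗[k] A :=
    Algebra.TensorProduct.map (IsScalarTower.toAlgHom k P E) (AlgHom.id k A)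
  letI : Algebra (P ⊗[k] A) (E ⊗[k] A) := ψ.toRingHom.toAlgebra
  have hst : IsScalarTower P (P ⊗[k] A) (E ⊗[k] A) := by
    refine IsScalarTower.of_algebraMap_eq' ?_
    ext a
    change algebraMap P (E ⊗[k] A) a = ψ (algebraMap P (P ⊗[k] A) a)
    rw [Algebra.TensorProduct.algebraMap_apply, Algebra.TensorProduct.algebraMap_apply]
    simp [ψ]
  have hloc : IsLocalization (Algebra.algebraMapSubmonoid (P ⊗[k] A) M)
      (E ⊗[k] A) := by
    refine IsLocalization.tensorProduct_tensorProduct k A M E ?_
    ext a
    change ψ ((1 : P) ⊗ₜ[k] a) = (1 : E) ⊗ₜ[k] a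
    simp [ψ]
  exact isNormalRing_of_isLocalization (Algebra.algebraMapSubmonoid (P ⊗[k] A) M) h

/-- Purely transcendental step. -/
theorem isNormalRing_ifAdjoin_tensor (hA : EGA4.IsNormalRing A) {ι : Type u} [Finite ι]
    (x : ι → K) (hx : AlgebraicIndependent k x) :
    EGA4.IsNormalRing (IntermediateField.adjoin k (Set.range x) ⊗[k] A) :=
  isNormalRing_tensor_of_isLocalization k A (Algebra.adjoin k (Set.range x))
    (IntermediateField.adjoin k (Set.range x)) (nonZeroDivisors _)
    (isNormalRing_adjoin_tensor k K A hA x hx)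

/-- Finite separable step. -/
theorem isNormalRing_tensor_of_isSeparable (E K' : Type u) [Field E] [Field K'] [Algebra k E]
    [Algebra k K'] [Algebra E K'] [IsScalarTower k E K'] [Algebra.IsSeparable E K']
    [Module.Finite E K'] (h : EGA4.IsNormalRing (E ⊗[k] A)) :
    EGA4.IsNormalRing (K' ⊗[k] A) := by
  have hfe : Algebra.FormallyEtale E K' := Algebra.FormallyEtale.of_isSeparable E K'
  have het : Algebra.Etale E K' :=
    ⟨hfe, Algebra.FinitePresentation.of_finiteType.mp inferInstance⟩
  have h1 : EGA4.IsNormalRing ((E ⊗[k] A) ⊗[E] K') := isNormalRing_of_smooth (E ⊗[k] A) _ h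
  let e1 : (E ⊗[k] A) ⊗[E] K' ≃ₐ[E] K' ⊗[E] (E ⊗[k] A) := Algebra.TensorProduct.comm E _ _
  let e2 : K' ⊗[E] (E ⊗[k] A) ≃ₐ[K'] K' ⊗[k] A :=
    Algebra.TensorProduct.cancelBaseChange k E K' K' A
  exact isNormalRing_of_ringEquiv (e1.toRingEquiv.trans e2.toRingEquiv) h1

/-- Finitely generated geometrically reduced field extensions preserve normality. -/
theorem isNormalRing_tensor_of_essFiniteType (hA : EGA4.IsNormalRing A)
    [Algebra.IsGeometricallyReduced k K] [Algebra.EssFiniteType k K] :
    EGA4.IsNormalRing (K ⊗[k] A) := by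
  obtain ⟨s, hs, hsep⟩ := exists_sepGen k K
  have hr : Set.range ((↑) : s → K) = (s : Set K) := Subtype.range_coe
  have h1 := isNormalRing_ifAdjoin_tensor k K A hA ((↑) : s → K) hs.1
  rw [hr] at h1
  have : Algebra.EssFiniteType (IntermediateField.adjoin k (s : Set K)) K :=
    Algebra.EssFiniteType.of_comp k _ K
  have hfe : Algebra.FormallyEtale (IntermediateField.adjoin k (s : Set K)) K :=
    Algebra.FormallyEtale.of_isSeparable _ K
  have : Module.Finite (IntermediateField.adjoin k (s : Set K)) K :=
    Algebra.FormallyUnramified.finite_of_free _ _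
  exact isNormalRing_tensor_of_isSeparable k A (IntermediateField.adjoin k (s : Set K)) K h1

end SepGen

section General

variable (k A k' : Type u) [Field k] [CommRing A] [Algebra k A] [Field k'] [Algebra k k']

/-- The map `k(t) ⊗ A → k' ⊗ A` for a finite subset `t` of `k'`. -/
noncomputable def adjMap (t : Finset k') :
    IntermediateField.adjoin k (t : Set k') ⊗[k] A →ₐ[k] k' ⊗[k] A :=
  Algebra.TensorProduct.map (IntermediateField.val _) (AlgHom.id k A)

lemma adjMap_injective (t : Finset k') : Function.Injective (adjMap k A k' t) :=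
  Module.Flat.rTensor_preserves_injective_linearMap
    (IntermediateField.val (IntermediateField.adjoin k (t : Set k'))).toLinearMap
    Subtype.val_injective

lemma adjMap_range_mono {t t' : Finset k'} (h : t ⊆ t') :
    Set.range (adjMap k A k' t) ⊆ Set.range (adjMap k A k' t') := by
  rintro _ ⟨w, rfl⟩
  have hle : IntermediateField.adjoin k (t : Set k') ≤ IntermediateField.adjoin k (t' : Set k') :=
    IntermediateField.adjoin.mono _ _ _ (by exact_mod_cast h)
  refine ⟨Algebra.TensorProduct.map (IntermediateField.inclusion hle) (AlgHom.id k A) w, ?_⟩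
  induction w using TensorProduct.induction_on with
  | zero => simp
  | tmul x a => rfl
  | add x y hx hy => rw [map_add, map_add, map_add, hx, hy]

lemma exists_mem_range_adjMap (z : k' ⊗[k] A) : ∃ t : Finset k', z ∈ Set.range (adjMap k A k' t) := by
  classical
  induction z using TensorProduct.induction_on with
  | zero => exact ⟨∅, 0, map_zero _⟩
  | tmul x a =>
    refine ⟨{x}, (⟨x, IntermediateField.subset_adjoin _ _ (by simp)⟩ :
      IntermediateField.adjoin k (({x} : Finset k') : Set k')) ⊗ₜ[k] a, rfl⟩
  | add x y hx hy =>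
    obtain ⟨t1, h1⟩ := hx
    obtain ⟨t2, h2⟩ := hy
    obtain ⟨w1, rfl⟩ := adjMap_range_mono k A k' (Finset.subset_union_left (s₂ := t2)) h1
    obtain ⟨w2, rfl⟩ := adjMap_range_mono k A k' (Finset.subset_union_right (s₁ := t1)) h2
    exact ⟨t1 ∪ t2, w1 + w2, map_add _ _ _⟩

lemma exists_subset_range_adjMap (s : Finset (k' ⊗[k] A)) :
    ∃ t : Finset k', (s : Set (k' ⊗[k] A)) ⊆ Set.range (adjMap k A k' t) := by
  classical
  induction s using Finset.induction_on with
  | empty => exact ⟨∅, by simp⟩
  | insert z s _ ih =>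
    obtain ⟨t1, h1⟩ := ih
    obtain ⟨t2, h2⟩ := exists_mem_range_adjMap k A k' z
    refine ⟨t1 ∪ t2, ?_⟩
    intro w hw
    rw [Finset.coe_insert, Set.mem_insert_iff] at hw
    rcases hw with rfl | hw
    · exact adjMap_range_mono k A k' Finset.subset_union_right h2
    · exact adjMap_range_mono k A k' Finset.subset_union_left (h1 hw)

/-- Base change of a normal ring along a geometrically reduced field extension is normal. -/
theorem isNormalRing_tensor_of_isGeometricallyReduced (hA : EGA4.IsNormalRing A)
    [Algebra.IsGeometricallyReduced k k'] : EGA4.IsNormalRing (k' ⊗[k] A) := by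
  refine isNormalRing_of_union (ι := Finset k')
    (fun t => IntermediateField.adjoin k (t : Set k') ⊗[k] A)
    (fun t => (adjMap k A k' t).toRingHom) (fun t => adjMap_injective k A k' t)
    (fun s => exists_subset_range_adjMap k A k' s) ?_
  intro t
  have hgr : Algebra.IsGeometricallyReduced k (IntermediateField.adjoin k (t : Set k')) :=
    Algebra.IsGeometricallyReduced.of_injective (IntermediateField.val _)
      Subtype.val_injective
  have hfg : Algebra.EssFiniteType k (IntermediateField.adjoin k (t : Set k')) :=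
    IntermediateField.essFiniteType_iff.mpr ⟨t, rfl⟩
  exact isNormalRing_tensor_of_essFiniteType k _ A hA

end General

end Groth.Agent.Lib.Helper6.Normal
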