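import Mathlib
import Groth.Prelude.Def_EGA4b
import Groth.Agent.Lib.Helper6.Normal.GeomRed

/-!
# Separably generated extensions are geometrically reduced; extensions of perfect fields
-/

open TensorProduct

namespace Groth.Agent.Lib.Helper6.Normal

universe u

/-- A normal ring is reduced. -/
theorem isReduced_of_isNormalRing {R : Type u} [CommRing R] (hR : EGA4.IsNormalRing R) :
    IsReduced R := by
  refine isReduced_ofLocalizationMaximal R fun J hJ => ?_
  have := hJ.isPrime
  have := (hR J).1
  infer_instance

section

open scoped IntermediateField.algebraAdjoinAdjoin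

variable (k K A : Type u) [Field k] [Field K] [Algebra k K] [CommRing A] [Algebra k A]

/-- Finitely generated separably generated field extensions preserve normality. -/
theorem isNormalRing_tensor_of_sepGen (hA : EGA4.IsNormalRing A) [Algebra.EssFiniteType k K]
    (s : Finset K) (hs : IsTranscendenceBasis k ((↑) : s → K))
    (hsep : Algebra.IsSeparable (IntermediateField.adjoin k (s : Set K)) K) :
    EGA4.IsNormalRing (K ⊗[k] A) := by
  have hr : Set.range ((↑) : s → K) = (s : Set K) := Subtype.range_coe
  have h1 := isNormalRing_ifAdjoin_tensor k K A hA ((↑) : s → K) hs.1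
  rw [hr] at h1
  have : Algebra.EssFiniteType (IntermediateField.adjoin k (s : Set K)) K :=
    Algebra.EssFiniteType.of_comp k _ K
  have hfe : Algebra.FormallyEtale (IntermediateField.adjoin k (s : Set K)) K :=
    Algebra.FormallyEtale.of_isSeparable _ K
  have : Module.Finite (IntermediateField.adjoin k (s : Set K)) K :=
    Algebra.FormallyUnramified.finite_of_free _ _
  exact isNormalRing_tensor_of_isSeparable k A (IntermediateField.adjoin k (s : Set K)) K h1

end

/-- A field is a normal ring. -/
theorem isNormalRing_of_field (F : Type u) [Field F] : EGA4.IsNormalRing F := by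
  intro p _
  have hle : p.primeCompl ≤ nonZeroDivisors F := p.primeCompl_le_nonZeroDivisors
  exact ⟨IsLocalization.isDomain_localization hle,
    isIntegrallyClosed_of_isLocalization _ p.primeCompl hle⟩

/-- Finitely generated separably generated field extensions are geometrically reduced. -/
theorem isGeometricallyReduced_of_sepGen (k K : Type u) [Field k] [Field K] [Algebra k K]
    [Algebra.EssFiniteType k K]
    (s : Finset K) (hs : IsTranscendenceBasis k ((↑) : s → K))
    (hsep : Algebra.IsSeparable (IntermediateField.adjoin k (s : Set K)) K) :
    Algebra.IsGeometricallyReduced k K := by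
  rw [Algebra.isGeometricallyReduced_field_iff]
  have h := isNormalRing_tensor_of_sepGen k K (AlgebraicClosure k)
    (isNormalRing_of_field (AlgebraicClosure k)) s hs hsep
  have hred := isReduced_of_isNormalRing h
  exact isReduced_of_injective
    (Algebra.TensorProduct.comm k (AlgebraicClosure k) K).toAlgHom
    (Algebra.TensorProduct.comm k (AlgebraicClosure k) K).injective

/-- Finitely generated field extensions of a perfect field are geometrically reduced. -/
theorem isGeometricallyReduced_of_perfectField (P L : Type u) [Field P] [Field L] [Algebra P L]
    [PerfectField P] [Algebra.EssFiniteType P L] : Algebra.IsGeometricallyReduced P L := by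
  obtain ⟨s, hs, hsep⟩ := exists_isTranscendenceBasis_and_isSeparable_of_perfectField P L
  exact isGeometricallyReduced_of_sepGen P L s hs hsep

/-- Descent of geometric reducedness along an algebraic base field extension. -/
theorem isGeometricallyReduced_of_tensor (k' P A : Type u) [Field k'] [Field P] [Algebra k' P]
    [Algebra.IsAlgebraic k' P] [CommRing A] [Algebra k' A]
    [Algebra.IsGeometricallyReduced P (P ⊗[k'] A)] : Algebra.IsGeometricallyReduced k' A := by
  rw [Algebra.isGeometricallyReduced_field_iff]
  let φ : P →ₐ[k'] AlgebraicClosure k' := IsAlgClosed.lift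
  letI : Algebra P (AlgebraicClosure k') := φ.toRingHom.toAlgebra
  haveI : IsScalarTower k' P (AlgebraicClosure k') :=
    IsScalarTower.of_algebraMap_eq fun x => (φ.commutes x).symm
  haveI : Algebra.IsAlgebraic P (AlgebraicClosure k') :=
    Algebra.IsAlgebraic.tower_top (K := k') P
  have h1 : IsReduced (AlgebraicClosure k' ⊗[P] (P ⊗[k'] A)) := inferInstance
  exact isReduced_of_injective
    (Algebra.TensorProduct.cancelBaseChange k' P (AlgebraicClosure k') (AlgebraicClosure k')
      A).symm.toAlgHom
    (Algebra.TensorProduct.cancelBaseChange k' P (AlgebraicClosure k') (AlgebraicClosure k')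
      A).symm.injective

end Groth.Agent.Lib.Helper6.Normal
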