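import Mathlib
import Groth.Prelude.Def_EGA4b
import Groth.Agent.Lib.Helper6.Normal.GeomRed
import Groth.Agent.Lib.Helper6.Normal.SepGenRed

/-!
# EGA IV 4.6.6: a finitely generated field extension becomes separable after a finite purely
inseparable base extension (modulo nilpotents)
-/

open TensorProduct

namespace Groth.Agent.Lib.Helper6.Normal

universe u

section Local

variable (k E K : Type u) [Field k] [Field E] [Algebra k E] [IsPurelyInseparable k E]
  [Field K] [Algebra k K]

/-- Some `q`-power of any element of `E ⊗ K` lies in `K`, for `E/k` purely inseparable. -/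
theorem exists_pow_mem_range_includeRight (z : E ⊗[k] K) :
    ∃ n : ℕ, z ^ (ringExpChar k) ^ n ∈
      (Algebra.TensorProduct.includeRight : K →ₐ[k] E ⊗[k] K).range := by
  haveI : ExpChar k (ringExpChar k) := ringExpChar.expChar k
  haveI : Nontrivial (E ⊗[k] K) := inferInstance
  haveI : ExpChar (E ⊗[k] K) (ringExpChar k) :=
    expChar_of_injective_algebraMap (algebraMap k (E ⊗[k] K)).injective (ringExpChar k)
  induction z using TensorProduct.induction_on with
  | zero =>
    refine ⟨0, ?_⟩
    rw [pow_zero, pow_one]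
    exact Subalgebra.zero_mem _
  | tmul a x =>
    obtain ⟨n, c, hc⟩ := IsPurelyInseparable.pow_mem k (ringExpChar k) a
    refine ⟨n, c • x ^ (ringExpChar k) ^ n, ?_⟩
    change (1 : E) ⊗ₜ[k] (c • x ^ (ringExpChar k) ^ n) = _
    rw [Algebra.TensorProduct.tmul_pow, ← hc, Algebra.algebraMap_eq_smul_one,
      TensorProduct.smul_tmul]
  | add z₁ z₂ h₁ h₂ =>
    obtain ⟨n₁, hn₁⟩ := h₁
    obtain ⟨n₂, hn₂⟩ := h₂
    refine ⟨n₁ + n₂, ?_⟩
    rw [add_pow_expChar_pow]
    refine Subalgebra.add_mem _ ?_ ?_
    · rw [pow_add, pow_mul]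
      exact Subalgebra.pow_mem _ hn₁ _
    · rw [add_comm n₁, pow_add, pow_mul]
      exact Subalgebra.pow_mem _ hn₂ _

/-- Every element of `E ⊗ K` is nilpotent or a unit. -/
theorem isNilpotent_or_isUnit_tensor (z : E ⊗[k] K) : IsNilpotent z ∨ IsUnit z := by
  haveI : ExpChar k (ringExpChar k) := ringExpChar.expChar k
  obtain ⟨n, y, hy⟩ := exists_pow_mem_range_includeRight k E K z
  have hpos : (ringExpChar k) ^ n ≠ 0 := pow_ne_zero _ (expChar_pos k (ringExpChar k)).ne'
  by_cases hy0 : y = 0
  · left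
    refine ⟨(ringExpChar k) ^ n, ?_⟩
    rw [← hy, hy0, map_zero]
  · right
    have hu : IsUnit (z ^ (ringExpChar k) ^ n) := by
      rw [← hy]
      exact (isUnit_iff_ne_zero.mpr hy0).map _
    exact (isUnit_pow_iff hpos).mp hu

/-- Every maximal ideal of `E ⊗ K` is the nilradical. -/
theorem eq_nilradical_of_isMaximal (m : Ideal (E ⊗[k] K)) (hm : m.IsMaximal) :
    m = nilradical (E ⊗[k] K) := by
  apply le_antisymm
  · intro z hz
    rcases isNilpotent_or_isUnit_tensor k E K z with h | h
    · exact h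
    · exact absurd (Ideal.eq_top_of_isUnit_mem _ hz h) hm.ne_top
  · exact nilradical_le_prime m

/-- The nilradical of `E ⊗ K` is a maximal ideal. -/
theorem nilradical_isMaximal : (nilradical (E ⊗[k] K)).IsMaximal := by
  obtain ⟨m, hm⟩ := Ideal.exists_maximal (E ⊗[k] K)
  rw [← eq_nilradical_of_isMaximal k E K m hm]
  exact hm

end Local

section Key

variable (k K P : Type u) [Field k] [Field K] [Algebra k K] [Algebra.EssFiniteType k K]
  [Field P] [Algebra k P] [IsPurelyInseparable k P] [PerfectField P]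
  (k' : Type u) [Field k'] [Algebra k k'] [Algebra k' P] [IsScalarTower k k' P]

/-- The natural map `k' ⊗ K → P ⊗ K` for an intermediate field `k'`. -/
noncomputable def natMap : k' ⊗[k] K →ₐ[k] P ⊗[k] K :=
  Algebra.TensorProduct.map (IsScalarTower.toAlgHom k k' P) (AlgHom.id k K)

omit [Algebra.EssFiniteType k K] [IsPurelyInseparable k P] [PerfectField P] in
lemma natMap_injective : Function.Injective (natMap k K P k') :=
  Module.Flat.rTensor_preserves_injective_linearMap
    (IsScalarTower.toAlgHom k k' P).toLinearMap (algebraMap k' P).injective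

set_option maxHeartbeats 1000000 in
/-- If the nilradical of `P ⊗ K` is generated by nilpotents of `k' ⊗ K`, the residue fields of
`k' ⊗ K` are geometrically reduced over `k'`. -/
theorem isGeometricallyReduced_quotient_of_nilradical_le
    (hN : nilradical (P ⊗[k] K) ≤ Ideal.map (natMap k K P k') (nilradical (k' ⊗[k] K)))
    (m : Ideal (k' ⊗[k] K)) (hm : m.IsMaximal) :
    Algebra.IsGeometricallyReduced k' ((k' ⊗[k] K) ⧸ m) := by
  have : IsPurelyInseparable k k' := IsPurelyInseparable.tower_bot k k' P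
  have : Algebra.IsAlgebraic k P := inferInstance
  have : Algebra.IsAlgebraic k' P := Algebra.IsAlgebraic.tower_top (K := k) k'
  have hmn : m = nilradical (k' ⊗[k] K) := eq_nilradical_of_isMaximal k k' K m hm
  -- the residue field of `P ⊗ K`
  have hNmax : (nilradical (P ⊗[k] K)).IsMaximal := nilradical_isMaximal k P K
  letI : Field ((P ⊗[k] K) ⧸ nilradical (P ⊗[k] K)) := Ideal.Quotient.field _
  have hgr : Algebra.IsGeometricallyReduced P ((P ⊗[k] K) ⧸ nilradical (P ⊗[k] K)) :=
    isGeometricallyReduced_of_perfectField P _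
  -- the isomorphisms
  let e₁ : P ⊗[k'] ((k' ⊗[k] K) ⧸ m) ≃ₐ[P] (P ⊗[k'] (k' ⊗[k] K)) ⧸
      m.map (Algebra.TensorProduct.includeRight (R := k') (A := P) (B := k' ⊗[k] K)) :=
    Algebra.TensorProduct.tensorQuotientEquiv (R := k') P (k' ⊗[k] K) P m
  let e₂ : P ⊗[k'] (k' ⊗[k] K) ≃ₐ[P] P ⊗[k] K :=
    Algebra.TensorProduct.cancelBaseChange k k' P P K
  have hcomp : ∀ z : k' ⊗[k] K, e₂ ((1 : P) ⊗ₜ[k'] z) = natMap k K P k' z := by
    intro z
    induction z using TensorProduct.induction_on with
    | zero => simp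
    | tmul c x =>
      change e₂ ((1 : P) ⊗ₜ[k'] (c ⊗ₜ[k] x)) = (algebraMap k' P c) ⊗ₜ[k] x
      rw [Algebra.TensorProduct.cancelBaseChange_tmul]
      congr 1
      rw [Algebra.smul_def, mul_one]
    | add z₁ z₂ h₁ h₂ => rw [TensorProduct.tmul_add, map_add, map_add, h₁, h₂]
  have hJ : nilradical (P ⊗[k] K) =
      (m.map (Algebra.TensorProduct.includeRight (R := k') (A := P) (B := k' ⊗[k] K))).map
        (e₂ : P ⊗[k'] (k' ⊗[k] K) →+* P ⊗[k] K) := by
    apply le_antisymm
    · refine hN.trans ?_
      rw [Ideal.map_le_iff_le_comap]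
      intro z hz
      rw [Ideal.mem_comap, ← hcomp z]
      refine Ideal.mem_map_of_mem _ (Ideal.mem_map_of_mem _ ?_)
      rw [hmn]
      exact hz
    · rw [Ideal.map_le_iff_le_comap, Ideal.map_le_iff_le_comap]
      intro z hz
      rw [Ideal.mem_comap, Ideal.mem_comap]
      rw [hmn] at hz
      change e₂ ((1 : P) ⊗ₜ[k'] z) ∈ _
      rw [hcomp z]
      exact (mem_nilradical.mp hz).map (natMap k K P k')
  let e₃ : ((P ⊗[k'] (k' ⊗[k] K)) ⧸
      m.map (Algebra.TensorProduct.includeRight (R := k') (A := P) (B := k' ⊗[k] K))) ≃ₐ[P]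
      (P ⊗[k] K) ⧸ nilradical (P ⊗[k] K) :=
    Ideal.quotientEquivAlg _ _ e₂ hJ
  have : Algebra.IsGeometricallyReduced P (P ⊗[k'] ((k' ⊗[k] K) ⧸ m)) :=
    Algebra.IsGeometricallyReduced.of_injective (e₁.trans e₃).toAlgHom (e₁.trans e₃).injective
  exact isGeometricallyReduced_of_tensor k' P ((k' ⊗[k] K) ⧸ m)

end Key

section Main

variable (k K : Type u) [Field k] [Field K] [Algebra k K] [Algebra.EssFiniteType k K]

set_option maxHeartbeats 1000000 in
/-- EGA IV 4.6.6 relative to a perfect purely inseparable extension `P` of `k`. -/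
theorem exists_finite_purelyInseparable_aux (P : Type u) [Field P] [Algebra k P]
    [IsPurelyInseparable k P] [PerfectField P] :
    ∃ (k' : Type u) (_ : Field k') (_ : Algebra k k'),
      FiniteDimensional k k' ∧ IsPurelyInseparable k k' ∧
      ∀ (m : Ideal (k' ⊗[k] K)), m.IsMaximal →
        Algebra.IsGeometricallyReduced k' ((k' ⊗[k] K) ⧸ m) := by
  have : Algebra.EssFiniteType P (P ⊗[k] K) := inferInstance
  have : IsNoetherianRing (P ⊗[k] K) := Algebra.EssFiniteType.isNoetherianRing P _
  obtain ⟨s, hs⟩ := IsNoetherian.noetherian (nilradical (P ⊗[k] K))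
  obtain ⟨t, ht⟩ := exists_subset_range_adjMap k K P s
  have halg : Algebra.IsAlgebraic k P := inferInstance
  have hfin : FiniteDimensional k (IntermediateField.adjoin k (t : Set P)) :=
    IntermediateField.finiteDimensional_adjoin fun x _ => Algebra.IsIntegral.isIntegral x
  have hpi : IsPurelyInseparable k (IntermediateField.adjoin k (t : Set P)) :=
    IsPurelyInseparable.tower_bot k _ P
  refine ⟨IntermediateField.adjoin k (t : Set P), inferInstance, inferInstance, hfin, hpi,
    fun m hm => ?_⟩
  refine isGeometricallyReduced_quotient_of_nilradical_le k K P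
    (IntermediateField.adjoin k (t : Set P)) ?_ m hm
  rw [← hs, Ideal.submodule_span_eq, Ideal.span_le]
  intro b hb
  obtain ⟨z, hz⟩ := ht hb
  have hbN : IsNilpotent b := by
    have : b ∈ nilradical (P ⊗[k] K) := by
      rw [← hs]
      exact Submodule.subset_span hb
    exact mem_nilradical.mp this
  have hnat : natMap k K P (IntermediateField.adjoin k (t : Set P)) z = b := hz
  have hzN : IsNilpotent z := by
    rw [← hnat] at hbN
    exact (IsNilpotent.map_iff
      (natMap_injective k K P (IntermediateField.adjoin k (t : Set P)))).mp hbN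
  rw [← hnat]
  exact Ideal.mem_map_of_mem _ (mem_nilradical.mpr hzN)

/-- EGA IV 4.6.6. -/
theorem exists_finite_purelyInseparable :
    ∃ (k' : Type u) (_ : Field k') (_ : Algebra k k'),
      FiniteDimensional k k' ∧ IsPurelyInseparable k k' ∧
      ∀ (m : Ideal (k' ⊗[k] K)), m.IsMaximal →
        Algebra.IsGeometricallyReduced k' ((k' ⊗[k] K) ⧸ m) :=
  exists_finite_purelyInseparable_aux k K (perfectClosure k (AlgebraicClosure k))

end Main

end Groth.Agent.Lib.Helper6.Normal
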