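import Mathlib
import Groth.Prelude.Def_EGA4b
import Groth.Agent.Lib.Helper6.Normal.GeomRed
import Groth.Agent.Lib.Helper6.Normal.Smooth
import Groth.Agent.Lib.Helper6.Normal.Insep466

/-!
# Normality after all finite purely inseparable extensions implies normality after all extensions
-/

open TensorProduct

namespace Groth.Agent.Lib.Helper6.Normal

universe u

variable (k S : Type u) [Field k] [CommRing S] [Algebra k S]

set_option maxHeartbeats 1000000 in
/-- Finitely generated case. -/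
theorem isNormalRing_tensor_of_forall_insep_of_essFiniteType
    (h : ∀ (k' : Type u) [Field k'] [Algebra k k'], Module.Finite k k' →
      IsPurelyInseparable k k' → EGA4.IsNormalRing (k' ⊗[k] S))
    (K : Type u) [Field K] [Algebra k K] [Algebra.EssFiniteType k K] :
    EGA4.IsNormalRing (K ⊗[k] S) := by
  obtain ⟨k', _, _, hfin, hpi, hgr⟩ := exists_finite_purelyInseparable k K
  obtain ⟨m, hm⟩ := Ideal.exists_maximal (k' ⊗[k] K)
  letI : Field ((k' ⊗[k] K) ⧸ m) := Ideal.Quotient.field m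
  have hgr' : Algebra.IsGeometricallyReduced k' ((k' ⊗[k] K) ⧸ m) := hgr m hm
  have hS' : EGA4.IsNormalRing (k' ⊗[k] S) := h k' hfin hpi
  have h1 : EGA4.IsNormalRing (((k' ⊗[k] K) ⧸ m) ⊗[k'] (k' ⊗[k] S)) :=
    isNormalRing_tensor_of_essFiniteType k' ((k' ⊗[k] K) ⧸ m) (k' ⊗[k] S) hS'
  -- `K' ⊗[k'] (k' ⊗[k] S) ≃ K' ⊗[k] S`
  have h2 : EGA4.IsNormalRing (((k' ⊗[k] K) ⧸ m) ⊗[k] S) :=
    isNormalRing_of_ringEquiv
      (Algebra.TensorProduct.cancelBaseChange k k' ((k' ⊗[k] K) ⧸ m) ((k' ⊗[k] K) ⧸ m)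
        S).toRingEquiv h1
  -- `K'` as a `K`-algebra
  let φ : K →ₐ[k] (k' ⊗[k] K) ⧸ m :=
    (Ideal.Quotient.mkₐ k m).comp Algebra.TensorProduct.includeRight
  letI : Algebra K ((k' ⊗[k] K) ⧸ m) := φ.toRingHom.toAlgebra
  haveI : IsScalarTower k K ((k' ⊗[k] K) ⧸ m) :=
    IsScalarTower.of_algebraMap_eq fun x => (φ.commutes x).symm
  have h3 : EGA4.IsNormalRing (((k' ⊗[k] K) ⧸ m) ⊗[K] (K ⊗[k] S)) :=
    isNormalRing_of_ringEquiv
      (Algebra.TensorProduct.cancelBaseChange k K ((k' ⊗[k] K) ⧸ m) ((k' ⊗[k] K) ⧸ m)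
        S).symm.toRingEquiv h2
  -- faithfully flat descent
  have h4 : EGA4.IsNormalRing ((K ⊗[k] S) ⊗[K] ((k' ⊗[k] K) ⧸ m)) :=
    isNormalRing_of_ringEquiv
      (Algebra.TensorProduct.comm K ((k' ⊗[k] K) ⧸ m) (K ⊗[k] S)).toRingEquiv h3
  haveI : Module.FaithfullyFlat K ((k' ⊗[k] K) ⧸ m) := inferInstance
  haveI : Module.FaithfullyFlat (K ⊗[k] S) ((K ⊗[k] S) ⊗[K] ((k' ⊗[k] K) ⧸ m)) := inferInstance
  exact isNormalRing_of_faithfullyFlat (K ⊗[k] S) ((K ⊗[k] S) ⊗[K] ((k' ⊗[k] K) ⧸ m)) h4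

/-- General case. -/
theorem isNormalRing_tensor_of_forall_insep
    (h : ∀ (k' : Type u) [Field k'] [Algebra k k'], Module.Finite k k' →
      IsPurelyInseparable k k' → EGA4.IsNormalRing (k' ⊗[k] S))
    (K : Type u) [Field K] [Algebra k K] :
    EGA4.IsNormalRing (K ⊗[k] S) := by
  refine isNormalRing_of_union (ι := Finset K)
    (fun t => IntermediateField.adjoin k (t : Set K) ⊗[k] S)
    (fun t => (adjMap k S K t).toRingHom) (fun t => adjMap_injective k S K t)
    (fun s => exists_subset_range_adjMap k S K s) ?_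
  intro t
  have hfg : Algebra.EssFiniteType k (IntermediateField.adjoin k (t : Set K)) :=
    IntermediateField.essFiniteType_iff.mpr ⟨t, rfl⟩
  exact isNormalRing_tensor_of_forall_insep_of_essFiniteType k S h _

end Groth.Agent.Lib.Helper6.Normal
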