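import Mathlib
import Groth.Prelude.Def_EGA4b
import Groth.Agent.Lib.Helper6.Normal.Elementwise
import Groth.Agent.Lib.Helper6.Normal.Local
import Groth.Agent.Lib.Helper6.Normal.GeomRed

/-!
# Subrings integrally closed in a Noetherian normal ring are normal
-/

open Polynomial

namespace Groth.Agent.Lib.Helper6.Normal

universe u

/-- A normal ring is integrally closed in any localization at nonzerodivisors. -/
theorem exists_of_isIntegral_of_isNormalRing {C C' : Type u} [CommRing C] [CommRing C']
    [Algebra C C'] (hC : EGA4.IsNormalRing C) (M : Submonoid C) (hM : M ≤ nonZeroDivisors C)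
    [IsLocalization M C'] (x : C') (hx : IsIntegral C x) : ∃ c, algebraMap C C' c = x := by
  have hinj : Function.Injective (algebraMap C C') := IsLocalization.injective C' hM
  obtain ⟨a, s, rfl⟩ := IsLocalization.exists_mk'_eq M x
  obtain ⟨p, hp, hpx⟩ := hx
  have h1 : (p.scaleRoots (s : C)).eval a = 0 := by
    apply hinj
    rw [map_zero]
    have h3 := scaleRoots_eval₂_mul (p := p) (algebraMap C C') (IsLocalization.mk' C' a s) (s : C)
    rw [hpx, mul_zero, mul_comm, IsLocalization.mk'_spec, eval₂_at_apply] at h3
    exact h3
  obtain ⟨s', t, c, hs', ht, hst⟩ := n2_of_isNormalRing hC a s p hp h1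
  have hs0 : s' = 0 := (mem_nonZeroDivisors_iff_right.mp (hM s.2)) s' hs'
  rw [hs0, zero_add] at hst
  rw [hst, one_mul] at ht
  refine ⟨c, ?_⟩
  rw [IsLocalization.eq_mk'_iff_mul_eq, ← map_mul, ht]

/-- A Noetherian ring which is locally a domain and has only trivial idempotents is a domain. -/
theorem isDomain_of_noetherian_of_idempotents {T : Type u} [CommRing T] [IsNoetherianRing T]
    [Nontrivial T] (hT : N1 T) (hid : ∀ e : T, IsIdempotentElem e → e = 0 ∨ e = 1) :
    IsDomain T := by
  obtain ⟨q, hq⟩ := Ideal.nonempty_minimalPrimes (I := (⊥ : Ideal T)) bot_ne_top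
  have hqp : q.IsPrime := hq.1.1
  have hdom : IsDomain (Localization.AtPrime q) := isDomain_localization_of_n1 hT q
  -- the kernel of the localization map is a prime inside `q`, hence equals `q`
  have hker : ∀ b ∈ q, ∃ u : T, u ∉ q ∧ u * b = 0 := by
    intro b hb
    have hkp : (RingHom.ker (algebraMap T (Localization.AtPrime q))).IsPrime :=
      RingHom.ker_isPrime _
    have hle : RingHom.ker (algebraMap T (Localization.AtPrime q)) ≤ q := by
      intro x hx
      rw [RingHom.mem_ker, IsLocalization.map_eq_zero_iff q.primeCompl] at hx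
      obtain ⟨u, hu⟩ := hx
      have : (u : T) * x ∈ q := hu ▸ q.zero_mem
      exact (hqp.mem_or_mem this).resolve_left u.2
    have hge : q ≤ RingHom.ker (algebraMap T (Localization.AtPrime q)) :=
      hq.2 ⟨hkp, bot_le⟩ hle
    have := hge hb
    rw [RingHom.mem_ker, IsLocalization.map_eq_zero_iff q.primeCompl] at this
    obtain ⟨u, hu⟩ := this
    exact ⟨u, u.2, hu⟩
  have hidem : IsIdempotentElem q := by
    apply le_antisymm
    · exact Ideal.mul_le_right
    · intro b hb
      obtain ⟨u, huq, hub⟩ := hker b hb
      obtain ⟨s, t, hs, ht, hst⟩ := hT u b hub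
      have hsq : s ∈ q := by
        have : s * u ∈ q := hs ▸ q.zero_mem
        exact (hqp.mem_or_mem this).resolve_right huq
      have : b = s * b := by
        calc b = (s + t) * b := by rw [hst, one_mul]
          _ = s * b := by rw [add_mul, ht, add_zero]
      rw [this]
      exact Ideal.mul_mem_mul hsq hb
  obtain ⟨e, he, hqe⟩ := (Ideal.isIdempotentElem_iff_of_fg q (IsNoetherian.noetherian q)).mp hidem
  have hq0 : q = ⊥ := by
    rcases hid e he with rfl | rfl
    · rw [hqe]; simp
    · exfalso
      apply hqp.ne_top
      rw [hqe]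
      simp
  rw [hq0] at hqp
  exact IsDomain.of_bot_isPrime T

lemma eq_zero_or_one_of_isIdempotentElem_of_isLocalRing {R : Type*} [CommRing R] [IsLocalRing R]
    (e : R) (he : IsIdempotentElem e) : e = 0 ∨ e = 1 := by
  rcases IsLocalRing.isUnit_or_isUnit_one_sub_self e with h | h
  · right
    have : e * e = e * 1 := by rw [mul_one]; exact he
    exact h.mul_left_cancel this
  · left
    have : (1 - e) * e = (1 - e) * 0 := by
      rw [mul_zero, sub_mul, one_mul, he.eq, sub_self]
    exact h.mul_left_cancel this

/-- An integrally closed domain is a normal ring. -/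
theorem isNormalRing_of_isIntegrallyClosed (D : Type u) [CommRing D] [IsDomain D]
    [IsIntegrallyClosed D] : EGA4.IsNormalRing D := by
  intro p _
  have hle : p.primeCompl ≤ nonZeroDivisors D := p.primeCompl_le_nonZeroDivisors
  exact ⟨IsLocalization.isDomain_localization hle,
    isIntegrallyClosed_of_isLocalization _ p.primeCompl hle⟩

/-- A normal ring which is a domain is integrally closed. -/
theorem isIntegrallyClosed_of_isNormalRing (D : Type u) [CommRing D] [IsDomain D]
    (hD : EGA4.IsNormalRing D) : IsIntegrallyClosed D :=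
  IsIntegrallyClosed.of_localization_maximal fun p _ hp =>
    have := hp.isPrime
    (hD p).2

/-- A subring of a Noetherian normal ring which is integrally closed in it is a normal ring. -/
theorem isNormalRing_of_integrallyClosedIn {R T : Type u} [CommRing R] [CommRing T] [Algebra R T]
    (hinj : Function.Injective (algebraMap R T)) [IsNoetherianRing T]
    (hT : EGA4.IsNormalRing T)
    (hcl : ∀ x : T, IsIntegral R x → ∃ r, algebraMap R T r = x) : EGA4.IsNormalRing R := by
  intro P hP
  let M := P.primeCompl
  let RP := Localization M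
  let TP := Localization (Algebra.algebraMapSubmonoid T M)
  have hinjP : Function.Injective (algebraMap RP TP) := by
    haveI : IsLocalization (M.map (algebraMap R T)) TP :=
      inferInstanceAs (IsLocalization (Algebra.algebraMapSubmonoid T M) TP)
    exact IsLocalization.map_injective_of_injective M RP TP hinj
  have hclP : ∀ x : TP, IsIntegral RP x → ∃ a : RP, algebraMap RP TP a = x :=
    fun x hx => exists_of_isIntegral_localization M hcl x hx
  have hTP : EGA4.IsNormalRing TP :=
    isNormalRing_of_isLocalization (Algebra.algebraMapSubmonoid T M) hT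
  have hRPloc : IsLocalRing RP := inferInstanceAs (IsLocalRing (Localization.AtPrime P))
  have hnt : Nontrivial TP := hinjP.nontrivial
  have hid : ∀ e : TP, IsIdempotentElem e → e = 0 ∨ e = 1 := by
    intro e he
    have hint : IsIntegral RP e := by
      refine ⟨X ^ 2 - X, monic_X_pow_sub (by simp), ?_⟩
      simp [pow_two, he.eq]
    obtain ⟨a, rfl⟩ := hclP e hint
    have ha : IsIdempotentElem a := hinjP (by rw [map_mul]; exact he)
    rcases eq_zero_or_one_of_isIdempotentElem_of_isLocalRing a ha with rfl | rfl
    · left; exact map_zero _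
    · right; exact map_one _
  have hTPdom : IsDomain TP :=
    isDomain_of_noetherian_of_idempotents (n1_of_isNormalRing hTP) hid
  have hRPdom : IsDomain RP := hinjP.isDomain _
  have hTPic : IsIntegrallyClosed TP := isIntegrallyClosed_of_isNormalRing TP hTP
  refine ⟨hRPdom, ?_⟩
  change IsIntegrallyClosed RP
  let F0 := FractionRing RP
  let F := FractionRing TP
  let g : RP →+* F := (algebraMap TP F).comp (algebraMap RP TP)
  have hg : Function.Injective g := (IsFractionRing.injective TP F).comp hinjP
  let φ : F0 →+* F := IsFractionRing.lift hg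
  have hφ : ∀ a : RP, φ (algebraMap RP F0 a) = algebraMap TP F (algebraMap RP TP a) :=
    fun a => IsFractionRing.lift_algebraMap hg a
  rw [isIntegrallyClosed_iff F0]
  intro x hx
  have h1 : IsIntegral TP (φ x) :=
    hx.map_of_comp_eq (algebraMap RP TP) φ (by
      ext a
      exact (hφ a).symm)
  obtain ⟨y, hy⟩ := IsIntegrallyClosed.isIntegral_iff.mp h1
  have h2 : IsIntegral RP y := by
    obtain ⟨p, hp, hpx⟩ := hx
    refine ⟨p, hp, IsFractionRing.injective TP F ?_⟩
    rw [map_zero, hom_eval₂, hy]
    have : ((algebraMap TP F).comp (algebraMap RP TP)) = φ.comp (algebraMap RP F0) := by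
      ext a
      exact (hφ a).symm
    rw [this, ← hom_eval₂, hpx, map_zero]
  obtain ⟨a, rfl⟩ := hclP y h2
  refine ⟨a, φ.injective ?_⟩
  rw [hφ, hy]

end Groth.Agent.Lib.Helper6.Normal
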