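import Mathlib
import Groth.Prelude.Def_EGA4b
import Groth.Agent.Lib.Helper6.Normal.IntClosedIn

/-!
# Tensor products of integrally closed domains with separable fraction fields
-/

open TensorProduct Polynomial

namespace Groth.Agent.Lib.Helper6.Normal

universe u

section Intersection

variable {k : Type*} [Field k] {A K B L : Type*} [AddCommGroup A] [AddCommGroup K]
  [AddCommGroup B] [AddCommGroup L] [Module k A] [Module k K] [Module k B] [Module k L]

/-- `(K ⊗ B) ∩ (A ⊗ L) = A ⊗ B` inside `K ⊗ L`. -/
theorem exists_of_map_eq_map (i : A →ₗ[k] K) (j : B →ₗ[k] L) (hj : Function.Injective j)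
    (x : K ⊗[k] B) (y : A ⊗[k] L)
    (h : TensorProduct.map LinearMap.id j x = TensorProduct.map i LinearMap.id y) :
    ∃ r : A ⊗[k] B, TensorProduct.map i LinearMap.id r = x := by
  let π := (LinearMap.range i).mkQ
  have hex : Function.Exact i π := LinearMap.exact_map_mkQ_range i
  have hex' : Function.Exact (LinearMap.rTensor B i) (LinearMap.rTensor B π) :=
    rTensor_exact B hex (Submodule.mkQ_surjective _)
  have hinj : Function.Injective (LinearMap.lTensor (K ⧸ LinearMap.range i) j) :=
    Module.Flat.lTensor_preserves_injective_linearMap j hj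
  have h0 : LinearMap.rTensor B π x = 0 := by
    apply hinj
    rw [map_zero]
    have e1 : LinearMap.lTensor (K ⧸ LinearMap.range i) j (LinearMap.rTensor B π x) =
        LinearMap.rTensor L π (TensorProduct.map LinearMap.id j x) := by
      rw [← LinearMap.comp_apply, ← LinearMap.comp_apply]
      congr 1
      ext a b
      simp
    rw [e1, h]
    have e2 : LinearMap.rTensor L π (TensorProduct.map i LinearMap.id y) =
        TensorProduct.map (π.comp i) LinearMap.id y := by
      rw [← LinearMap.comp_apply]
      congr 1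
      ext a b
      simp
    rw [e2]
    have : π.comp i = 0 := hex.linearMap_comp_eq_zero
    rw [this, TensorProduct.map_zero_left, LinearMap.zero_apply]
  obtain ⟨r, hr⟩ := (hex' x).mp h0
  exact ⟨r, hr⟩

end Intersection

section Sides

variable (k : Type u) [Field k] (P E N : Type u) [CommRing P] [CommRing E] [CommRing N]
  [Algebra k P] [Algebra k E] [Algebra k N] [Algebra P E] [IsScalarTower k P E]
  (M : Submonoid P) (hM : M ≤ nonZeroDivisors P) [IsLocalization M E]

include hM in
/-- Integral elements of `E ⊗ N` over a normal `P ⊗ N` come from `P ⊗ N` (left factor). -/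
theorem exists_of_isIntegralElem_left (hPN : EGA4.IsNormalRing (P ⊗[k] N))
    (x : E ⊗[k] N)
    (hx : (Algebra.TensorProduct.map (IsScalarTower.toAlgHom k P E)
      (AlgHom.id k N)).toRingHom.IsIntegralElem x) :
    ∃ y : P ⊗[k] N, Algebra.TensorProduct.map (IsScalarTower.toAlgHom k P E) (AlgHom.id k N) y
      = x := by
  let ψ : P ⊗[k] N →ₐ[k] E ⊗[k] N :=
    Algebra.TensorProduct.map (IsScalarTower.toAlgHom k P E) (AlgHom.id k N)
  letI : Algebra (P ⊗[k] N) (E ⊗[k] N) := ψ.toRingHom.toAlgebra
  have hst : IsScalarTower P (P ⊗[k] N) (E ⊗[k] N) := by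
    refine IsScalarTower.of_algebraMap_eq' ?_
    ext a
    change algebraMap P (E ⊗[k] N) a = ψ (algebraMap P (P ⊗[k] N) a)
    rw [Algebra.TensorProduct.algebraMap_apply, Algebra.TensorProduct.algebraMap_apply]
    simp [ψ]
  have hloc : IsLocalization (Algebra.algebraMapSubmonoid (P ⊗[k] N) M)
      (E ⊗[k] N) := by
    refine IsLocalization.tensorProduct_tensorProduct k N M E ?_
    ext a
    change ψ ((1 : P) ⊗ₜ[k] a) = (1 : E) ⊗ₜ[k] a
    simp [ψ]
  have hle : Algebra.algebraMapSubmonoid (P ⊗[k] N) M ≤ nonZeroDivisors (P ⊗[k] N) := by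
    rintro _ ⟨m, hm, rfl⟩
    have hmnz : m ∈ nonZeroDivisors P := hM hm
    rw [mem_nonZeroDivisors_iff_right]
    intro z hz
    have hinj : Function.Injective (LinearMap.rTensor N (LinearMap.mulLeft k m)) :=
      Module.Flat.rTensor_preserves_injective_linearMap _
        (fun a b hab => (mul_cancel_left_mem_nonZeroDivisors hmnz).mp hab)
    have hmul : ∀ w : P ⊗[k] N, LinearMap.rTensor N (LinearMap.mulLeft k m) w =
        (m ⊗ₜ[k] (1 : N)) * w := by
      intro w
      induction w using TensorProduct.induction_on with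
      | zero => simp
      | tmul a b => simp
      | add a b ha hb => rw [map_add, mul_add, ha, hb]
    apply hinj
    rw [map_zero, hmul, ← hz, Algebra.TensorProduct.algebraMap_apply, Algebra.algebraMap_self,
      RingHom.id_apply, mul_comm]
  exact exists_of_isIntegral_of_isNormalRing hPN _ hle x hx

include hM in
/-- Integral elements of `N ⊗ E` over a normal `N ⊗ P` come from `N ⊗ P` (right factor). -/
theorem exists_of_isIntegralElem_right (hNP : EGA4.IsNormalRing (N ⊗[k] P))
    (x : N ⊗[k] E)
    (hx : (Algebra.TensorProduct.map (AlgHom.id k N)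
      (IsScalarTower.toAlgHom k P E)).toRingHom.IsIntegralElem x) :
    ∃ y : N ⊗[k] P, Algebra.TensorProduct.map (AlgHom.id k N) (IsScalarTower.toAlgHom k P E) y
      = x := by
  have hPN : EGA4.IsNormalRing (P ⊗[k] N) :=
    isNormalRing_of_ringEquiv (Algebra.TensorProduct.comm k N P).toRingEquiv hNP
  have hcomm : ∀ z : N ⊗[k] P, Algebra.TensorProduct.comm k N E
      (Algebra.TensorProduct.map (AlgHom.id k N) (IsScalarTower.toAlgHom k P E) z) =
      Algebra.TensorProduct.map (IsScalarTower.toAlgHom k P E) (AlgHom.id k N)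
        (Algebra.TensorProduct.comm k N P z) := by
    intro z
    induction z using TensorProduct.induction_on with
    | zero => simp
    | tmul a b => simp
    | add a b ha hb => simp only [map_add, ha, hb]
  obtain ⟨p, hp, hpx⟩ := hx
  have hx' : (Algebra.TensorProduct.map (IsScalarTower.toAlgHom k P E)
      (AlgHom.id k N)).toRingHom.IsIntegralElem (Algebra.TensorProduct.comm k N E x) := by
    refine ⟨p.map (Algebra.TensorProduct.comm k N P).toRingEquiv.toRingHom, hp.map _, ?_⟩
    rw [eval₂_map]
    have : ((Algebra.TensorProduct.map (IsScalarTower.toAlgHom k P E)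
        (AlgHom.id k N)).toRingHom.comp (Algebra.TensorProduct.comm k N P).toRingEquiv.toRingHom)
        = ((Algebra.TensorProduct.comm k N E).toRingEquiv.toRingHom).comp
          (Algebra.TensorProduct.map (AlgHom.id k N) (IsScalarTower.toAlgHom k P E)).toRingHom := by
      exact RingHom.ext fun z => (hcomm z).symm
    rw [this]
    have h2 := congrArg (Algebra.TensorProduct.comm k N E).toRingEquiv.toRingHom hpx
    rw [hom_eval₂, map_zero] at h2
    exact h2
  obtain ⟨y, hy⟩ := exists_of_isIntegralElem_left k P E N M hM hPN _ hx'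
  refine ⟨(Algebra.TensorProduct.comm k N P).symm y, ?_⟩
  apply (Algebra.TensorProduct.comm k N E).injective
  rw [hcomm, AlgEquiv.apply_symm_apply, hy]

end Sides

section Core

variable (k A B K L : Type u) [Field k] [CommRing A] [CommRing B] [IsDomain A] [IsDomain B]
  [Algebra k A] [Algebra k B] [Field K] [Field L] [Algebra k K] [Algebra k L] [Algebra A K]
  [Algebra B L] [IsScalarTower k A K] [IsScalarTower k B L] [IsFractionRing A K]
  [IsFractionRing B L]

/-- The finitely generated case. -/
theorem isNormalRing_tensor_core (hA : EGA4.IsNormalRing A) (hB : EGA4.IsNormalRing B)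
    [Algebra.IsGeometricallyReduced k K] [Algebra.IsGeometricallyReduced k L]
    [Algebra.EssFiniteType k K] : EGA4.IsNormalRing (A ⊗[k] B) := by
  let fA : A →ₐ[k] K := IsScalarTower.toAlgHom k A K
  let fB : B →ₐ[k] L := IsScalarTower.toAlgHom k B L
  let ψ : A ⊗[k] B →ₐ[k] K ⊗[k] L := Algebra.TensorProduct.map fA fB
  letI : Algebra (A ⊗[k] B) (K ⊗[k] L) := ψ.toRingHom.toAlgebra
  have hinjA : Function.Injective fA := IsFractionRing.injective A K
  have hinjB : Function.Injective fB := IsFractionRing.injective B L
  have hinj : Function.Injective (algebraMap (A ⊗[k] B) (K ⊗[k] L)) :=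
    TensorProduct.map_injective_of_flat_flat fA.toLinearMap fB.toLinearMap hinjA hinjB
  have hnoeth : IsNoetherianRing (K ⊗[k] L) := by
    have h1 : Algebra.EssFiniteType L (L ⊗[k] K) := inferInstance
    have h2 : IsNoetherianRing (L ⊗[k] K) := Algebra.EssFiniteType.isNoetherianRing L _
    exact isNoetherianRing_of_ringEquiv _ (Algebra.TensorProduct.comm k L K).toRingEquiv
  have hL : EGA4.IsNormalRing L := isNormalRing_of_isIntegrallyClosed L
  have hT : EGA4.IsNormalRing (K ⊗[k] L) :=
    isNormalRing_tensor_of_isGeometricallyReduced k L K hL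
  have hR1 : EGA4.IsNormalRing (K ⊗[k] B) :=
    isNormalRing_tensor_of_isGeometricallyReduced k B K hB
  have hR2 : EGA4.IsNormalRing (A ⊗[k] L) :=
    isNormalRing_of_ringEquiv (Algebra.TensorProduct.comm k L A).toRingEquiv
      (isNormalRing_tensor_of_isGeometricallyReduced k A L hA)
  refine isNormalRing_of_integrallyClosedIn hinj hT ?_
  intro x hx
  obtain ⟨p, hp, hpx⟩ := hx
  have hpx' : eval₂ ψ.toRingHom x p = 0 := hpx
  have hcomp1 : (Algebra.TensorProduct.map (AlgHom.id k K) fB).toRingHom.comp
      (Algebra.TensorProduct.map fA (AlgHom.id k B)).toRingHom = ψ.toRingHom := by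
    refine RingHom.ext fun z => ?_
    induction z using TensorProduct.induction_on with
    | zero => simp
    | tmul a b => rfl
    | add a b ha hb => rw [map_add, map_add, ha, hb]
  have hx1 : (Algebra.TensorProduct.map (AlgHom.id k K) fB).toRingHom.IsIntegralElem x := by
    refine ⟨p.map (Algebra.TensorProduct.map fA (AlgHom.id k B)).toRingHom, hp.map _, ?_⟩
    rw [eval₂_map, hcomp1]
    exact hpx'
  have hx2 : (Algebra.TensorProduct.map fA (AlgHom.id k L)).toRingHom.IsIntegralElem x := by
    refine ⟨p.map (Algebra.TensorProduct.map (AlgHom.id k A) fB).toRingHom, hp.map _, ?_⟩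
    rw [eval₂_map]
    have : (Algebra.TensorProduct.map fA (AlgHom.id k L)).toRingHom.comp
        (Algebra.TensorProduct.map (AlgHom.id k A) fB).toRingHom = ψ.toRingHom := by
      refine RingHom.ext fun z => ?_
      induction z using TensorProduct.induction_on with
      | zero => simp
      | tmul a b => rfl
      | add a b ha hb => rw [map_add, map_add, ha, hb]
    rw [this]
    exact hpx'
  obtain ⟨x1, h1⟩ := exists_of_isIntegralElem_right k B L K (nonZeroDivisors B) le_rfl hR1 x hx1
  obtain ⟨x2, h2⟩ := exists_of_isIntegralElem_left k A K L (nonZeroDivisors A) le_rfl hR2 x hx2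
  obtain ⟨r, hr⟩ := exists_of_map_eq_map fA.toLinearMap fB.toLinearMap hinjB x1 x2
    (h1.trans h2.symm)
  refine ⟨r, ?_⟩
  rw [← h1, ← hr]
  exact (RingHom.congr_fun hcomp1 r).symm

end Core

section Directed

variable (k A B : Type u) [Field k] [CommRing A] [CommRing B] [Algebra k A] [Algebra k B]
  {α : Type*} (S : Finset α → Subalgebra k A) (hmono : Monotone S) (hcov : ∀ a, ∃ t, a ∈ S t)

/-- The map `S t ⊗ B → A ⊗ B`. -/
noncomputable def subMap (t : Finset α) : S t ⊗[k] B →ₐ[k] A ⊗[k] B :=
  Algebra.TensorProduct.map (S t).val (AlgHom.id k B)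

lemma subMap_injective (t : Finset α) : Function.Injective (subMap k A B S t) :=
  Module.Flat.rTensor_preserves_injective_linearMap (S t).val.toLinearMap Subtype.val_injective

include hmono in
lemma subMap_range_mono {t t' : Finset α} (h : t ≤ t') :
    Set.range (subMap k A B S t) ⊆ Set.range (subMap k A B S t') := by
  rintro _ ⟨w, rfl⟩
  refine ⟨Algebra.TensorProduct.map (Subalgebra.inclusion (hmono h)) (AlgHom.id k B) w, ?_⟩
  induction w using TensorProduct.induction_on with
  | zero => simp
  | tmul x a => rfl
  | add x y hx hy => rw [map_add, map_add, map_add, hx, hy]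

include hmono hcov in
lemma exists_mem_range_subMap (z : A ⊗[k] B) : ∃ t, z ∈ Set.range (subMap k A B S t) := by
  classical
  induction z using TensorProduct.induction_on with
  | zero => exact ⟨∅, 0, map_zero _⟩
  | tmul x a =>
    obtain ⟨t, ht⟩ := hcov x
    exact ⟨t, (⟨x, ht⟩ : S t) ⊗ₜ[k] a, rfl⟩
  | add x y hx hy =>
    obtain ⟨t1, h1⟩ := hx
    obtain ⟨t2, h2⟩ := hy
    obtain ⟨w1, rfl⟩ := subMap_range_mono k A B S hmono (Finset.subset_union_left (s₂ := t2)) h1
    obtain ⟨w2, rfl⟩ := subMap_range_mono k A B S hmono (Finset.subset_union_right (s₁ := t1)) h2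
    exact ⟨t1 ∪ t2, w1 + w2, map_add _ _ _⟩

include hmono hcov in
lemma exists_subset_range_subMap (s : Finset (A ⊗[k] B)) :
    ∃ t, (s : Set (A ⊗[k] B)) ⊆ Set.range (subMap k A B S t) := by
  classical
  induction s using Finset.induction_on with
  | empty => exact ⟨∅, by simp⟩
  | insert z s _ ih =>
    obtain ⟨t1, h1⟩ := ih
    obtain ⟨t2, h2⟩ := exists_mem_range_subMap k A B S hmono hcov z
    refine ⟨t1 ∪ t2, ?_⟩
    intro w hw
    rw [Finset.coe_insert, Set.mem_insert_iff] at hw
    rcases hw with rfl | hw
    · exact subMap_range_mono k A B S hmono Finset.subset_union_right h2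
    · exact subMap_range_mono k A B S hmono Finset.subset_union_left (h1 hw)

end Directed

section Reduction

variable (k A : Type u) [Field k] [CommRing A] [IsDomain A] [Algebra k A]
  (K : Type u) [Field K] [Algebra k K] [Algebra A K] [IsScalarTower k A K] [IsFractionRing A K]

/-- The subfield of `K` generated by the image of a finite subset of `A`. -/
noncomputable def Kt (t : Finset A) : IntermediateField k K :=
  IntermediateField.adjoin k ((algebraMap A K) '' (t : Set A))

/-- `A ∩ K_t`. -/
noncomputable def At (t : Finset A) : Subalgebra k A :=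
  (Kt k A K t).toSubalgebra.comap (IsScalarTower.toAlgHom k A K)

lemma mem_At {t : Finset A} {a : A} : a ∈ At k A K t ↔ algebraMap A K a ∈ Kt k A K t := Iff.rfl

lemma At_mono : Monotone (At k A K) := by
  intro t t' h a ha
  rw [mem_At] at ha ⊢
  exact IntermediateField.adjoin.mono k _ _ (Set.image_mono (by exact_mod_cast h)) ha

lemma At_cov (a : A) : ∃ t, a ∈ At k A K t := by
  classical
  refine ⟨{a}, ?_⟩
  rw [mem_At]
  exact IntermediateField.subset_adjoin _ _ ⟨a, by simp, rfl⟩

/-- The map `A_t → K_t`. -/
noncomputable def ρt (t : Finset A) : At k A K t →ₐ[k] Kt k A K t where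
  toFun a := ⟨algebraMap A K a.1, a.2⟩
  map_one' := Subtype.ext (map_one _)
  map_mul' a b := Subtype.ext (map_mul _ _ _)
  map_zero' := Subtype.ext (map_zero _)
  map_add' a b := Subtype.ext (map_add _ _ _)
  commutes' r := Subtype.ext (by
    change algebraMap A K (algebraMap k A r) = algebraMap k K r
    rw [← IsScalarTower.algebraMap_apply])

lemma ρt_injective (t : Finset A) : Function.Injective (ρt k A K t) := by
  intro a b hab
  apply Subtype.ext
  apply IsFractionRing.injective A K
  exact congrArg Subtype.val hab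

noncomputable instance algAtKt (t : Finset A) : Algebra (At k A K t) (Kt k A K t) :=
  (ρt k A K t).toRingHom.toAlgebra

instance scalarTowerAtKt (t : Finset A) : IsScalarTower k (At k A K t) (Kt k A K t) :=
  IsScalarTower.of_algebraMap_eq fun r => ((ρt k A K t).commutes r).symm

instance faithfulAtKt (t : Finset A) : FaithfulSMul (At k A K t) (Kt k A K t) :=
  (faithfulSMul_iff_algebraMap_injective _ _).mpr (ρt_injective k A K t)

instance isFractionRingAtKt (t : Finset A) : IsFractionRing (At k A K t) (Kt k A K t) := by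
  refine IsFractionRing.of_field _ _ fun z => ?_
  obtain ⟨r, hr, s, hs, hz⟩ := IntermediateField.mem_adjoin_iff_div.mp z.2
  have himg : Algebra.adjoin k ((algebraMap A K) '' (t : Set A)) =
      (Algebra.adjoin k (t : Set A)).map (IsScalarTower.toAlgHom k A K) :=
    (AlgHom.map_adjoin (IsScalarTower.toAlgHom k A K) (t : Set A)).symm
  rw [himg] at hr hs
  obtain ⟨a, ha, rfl⟩ := hr
  obtain ⟨b, hb, rfl⟩ := hs
  have hmemK : ∀ c ∈ Algebra.adjoin k (t : Set A), algebraMap A K c ∈ Kt k A K t := by
    intro c hc
    apply IntermediateField.algebra_adjoin_le_adjoin k _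
    rw [himg]
    exact ⟨c, hc, rfl⟩
  refine ⟨⟨a, hmemK a ha⟩, ⟨b, hmemK b hb⟩, Subtype.ext ?_⟩
  rw [hz]
  rfl

instance isIntegrallyClosedAt [IsIntegrallyClosed A] (t : Finset A) :
    IsIntegrallyClosed (At k A K t) := by
  rw [isIntegrallyClosed_iff (Kt k A K t)]
  intro z hz
  have h1 : IsIntegral A (z : K) :=
    hz.map_of_comp_eq (At k A K t).val.toRingHom (Kt k A K t).val.toRingHom (by
      refine RingHom.ext fun a => ?_
      rfl)
  obtain ⟨a, ha⟩ := (IsIntegrallyClosed.isIntegral_iff (R := A) (K := K)).mp h1
  have hat : a ∈ At k A K t := by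
    rw [mem_At, ha]
    exact z.2
  exact ⟨⟨a, hat⟩, Subtype.ext ha⟩

instance geomRedKt [Algebra.IsGeometricallyReduced k K] (t : Finset A) :
    Algebra.IsGeometricallyReduced k (Kt k A K t) :=
  Algebra.IsGeometricallyReduced.of_injective (IntermediateField.val _) Subtype.val_injective

instance essFiniteTypeKt (t : Finset A) : Algebra.EssFiniteType k (Kt k A K t) := by
  classical
  refine IntermediateField.essFiniteType_iff.mpr ⟨t.image (algebraMap A K), ?_⟩
  rw [Finset.coe_image]
  rfl

/-- Tensor product of integrally closed domains with geometrically reduced fraction fields. -/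
theorem isNormalRing_tensor_of_isFractionRing (B L : Type u) [CommRing B] [IsDomain B]
    [Algebra k B] [Field L] [Algebra k L] [Algebra B L] [IsScalarTower k B L] [IsFractionRing B L]
    [IsIntegrallyClosed A] [IsIntegrallyClosed B]
    [Algebra.IsGeometricallyReduced k K] [Algebra.IsGeometricallyReduced k L] :
    EGA4.IsNormalRing (A ⊗[k] B) := by
  have hB : EGA4.IsNormalRing B := isNormalRing_of_isIntegrallyClosed B
  refine isNormalRing_of_union (ι := Finset A) (fun t => At k A K t ⊗[k] B)
    (fun t => (subMap k A B (At k A K) t).toRingHom)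
    (fun t => subMap_injective k A B (At k A K) t)
    (fun s => exists_subset_range_subMap k A B (At k A K) (At_mono k A K) (At_cov k A K) s) ?_
  intro t
  have hAt : EGA4.IsNormalRing (At k A K t) := isNormalRing_of_isIntegrallyClosed _
  exact isNormalRing_tensor_core k (At k A K t) B (Kt k A K t) L hAt hB

end Reduction

end Groth.Agent.Lib.Helper6.Normal
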