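import Mathlib

/-!
# Connected + locally domain + quasi-finite open over integral ⇒ integral
-/

open CategoryTheory AlgebraicGeometry TopologicalSpace

namespace Groth.Agent.Lib.Helper6.Normal

universe u

/-- If `y` has a domain as stalk, any two points specializing to `y` have a common generization
which specializes to `y`. -/
lemma exists_common_generization {Y : Scheme.{u}} (y : Y) [IsDomain (Y.presheaf.stalk y)]
    {g₁ g₂ : Y} (h₁ : g₁ ⤳ y) (h₂ : g₂ ⤳ y) : ∃ g₀ : Y, g₀ ⤳ g₁ ∧ g₀ ⤳ g₂ := by
  have hr := Scheme.range_fromSpecStalk (X := Y) (x := y)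
  obtain ⟨p₁, hp₁⟩ : g₁ ∈ Set.range (Y.fromSpecStalk y) := by rw [hr]; exact h₁
  obtain ⟨p₂, hp₂⟩ : g₂ ∈ Set.range (Y.fromSpecStalk y) := by rw [hr]; exact h₂
  have : IrreducibleSpace (Spec (Y.presheaf.stalk y)) :=
    inferInstanceAs (IrreducibleSpace (PrimeSpectrum (Y.presheaf.stalk y)))
  let ξ := genericPoint (Spec (Y.presheaf.stalk y))
  refine ⟨Y.fromSpecStalk y ξ, ?_, ?_⟩
  · rw [← hp₁]
    exact (genericPoint_specializes p₁).map (Y.fromSpecStalk y).continuous
  · rw [← hp₂]
    exact (genericPoint_specializes p₂).map (Y.fromSpecStalk y).continuous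

theorem isIntegral_of_connected {X Y : Scheme.{u}} (f : Y ⟶ X) [IsIntegral X]
    [LocallyQuasiFinite f] [QuasiCompact f] (hopen : IsOpenMap f)
    (hdom : ∀ y : Y, IsDomain (Y.presheaf.stalk y)) [ConnectedSpace Y] : IsIntegral Y := by
  have hred : IsReduced Y := by
    have : ∀ y : Y, _root_.IsReduced (Y.presheaf.stalk y) := fun y => by
      have := hdom y; infer_instance
    exact isReduced_of_isReduced_stalk Y
  have hη : IsGenericPoint (genericPoint X) Set.univ := genericPoint_spec X
  have hGfin : (f ⁻¹' {genericPoint X}).Finite := Scheme.Hom.finite_preimage_singleton f _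
  have hGdisc : _root_.IsDiscrete (f ⁻¹' {genericPoint X}) := Scheme.Hom.isDiscrete_preimage_singleton f _
  -- Claim A: every nonempty open meets the generic fibre
  have hA : ∀ V : Set Y, IsOpen V → V.Nonempty → (V ∩ f ⁻¹' {genericPoint X}).Nonempty := by
    intro V hV hne
    have h1 : IsOpen (f '' V) := hopen V hV
    have h2 : (f '' V).Nonempty := hne.image _
    have h3 : genericPoint X ∈ f '' V := by
      rw [hη.mem_open_set_iff h1]
      simpa using h2
    obtain ⟨v, hv, hfv⟩ := h3
    exact ⟨v, hv, hfv⟩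
  -- Claim B: the closures of the points of the generic fibre cover
  have hB : ∀ y : Y, ∃ g ∈ f ⁻¹' {genericPoint X}, g ⤳ y := by
    by_contra hcon
    push Not at hcon
    obtain ⟨y, hy⟩ := hcon
    have hcl : IsClosed (⋃ g ∈ f ⁻¹' {genericPoint X}, closure ({g} : Set Y)) :=
      hGfin.isClosed_biUnion fun g _ => isClosed_closure
    have hyn : y ∈ (⋃ g ∈ f ⁻¹' {genericPoint X}, closure ({g} : Set Y))ᶜ := by
      intro hmem
      simp only [Set.mem_iUnion] at hmem
      obtain ⟨g, hg, hgy⟩ := hmem
      exact hy g hg (specializes_iff_mem_closure.mpr hgy)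
    obtain ⟨v, hv, hvG⟩ := hA _ hcl.isOpen_compl ⟨y, hyn⟩
    apply hv
    simp only [Set.mem_iUnion]
    exact ⟨v, hvG, subset_closure rfl⟩
  -- Claim C: a point lies in the closure of a unique point of the generic fibre
  have hC : ∀ g₁ ∈ f ⁻¹' {genericPoint X}, ∀ g₂ ∈ f ⁻¹' {genericPoint X}, ∀ y : Y,
      g₁ ⤳ y → g₂ ⤳ y → g₁ = g₂ := by
    intro g₁ hg₁ g₂ hg₂ y h₁ h₂
    have := hdom y
    obtain ⟨g₀, h01, h02⟩ := exists_common_generization y h₁ h₂
    have hg₀ : g₀ ∈ f ⁻¹' {genericPoint X} := by
      have h3 : f g₀ ⤳ f g₁ := h01.map f.continuous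
      rw [show f g₁ = genericPoint X from hg₁] at h3
      exact (h3.antisymm (genericPoint_specializes _)).eq
    rw [← hGdisc.eq_of_specializes h01 hg₀ hg₁, ← hGdisc.eq_of_specializes h02 hg₀ hg₂]
  -- pick a point of the generic fibre
  obtain ⟨g, -, hg⟩ := hA Set.univ isOpen_univ Set.univ_nonempty
  have hclopen : IsClopen (closure ({g} : Set Y)) := by
    refine ⟨isClosed_closure, ?_⟩
    have hcl : IsClosed (⋃ g' ∈ (f ⁻¹' {genericPoint X}) \ {g}, closure ({g'} : Set Y)) :=
      (hGfin.subset Set.sdiff_subset).isClosed_biUnion fun g _ => isClosed_closure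
    have heq : closure ({g} : Set Y) =
        (⋃ g' ∈ (f ⁻¹' {genericPoint X}) \ {g}, closure ({g'} : Set Y))ᶜ := by
      ext y
      simp only [Set.mem_compl_iff, Set.mem_iUnion, not_exists]
      constructor
      · intro hy g' hg' hy'
        exact hg'.2 (hC g' hg'.1 g hg y (specializes_iff_mem_closure.mpr hy')
          (specializes_iff_mem_closure.mpr hy))
      · intro hy
        obtain ⟨g', hg', hgy⟩ := hB y
        by_cases hgg : g' = g
        · rw [← hgg]; exact specializes_iff_mem_closure.mp hgy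
        · exact absurd (specializes_iff_mem_closure.mp hgy) (hy g' ⟨hg', hgg⟩)
    rw [heq]
    exact hcl.isOpen_compl
  have huniv : closure ({g} : Set Y) = Set.univ :=
    hclopen.eq_univ ⟨g, subset_closure rfl⟩
  have hirr : IrreducibleSpace Y := by
    have h1 : IsIrreducible (closure ({g} : Set Y)) := isIrreducible_singleton.closure
    rw [huniv] at h1
    exact (irreducibleSpace_def Y).mpr h1
  exact isIntegral_of_irreducibleSpace_of_isReduced Y

end Groth.Agent.Lib.Helper6.Normal
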