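import Mathlib
import Groth.Agent.S1541
import Groth.Agent.Lib.Helper6.Normal.InsepNormal
import Groth.Agent.Lib.Helper6.Normal.Smooth

/-!
# Pointwise geometric normality of a scheme over a field
-/

open CategoryTheory AlgebraicGeometry TensorProduct

namespace Groth.Agent.Lib.Helper6.Normal

universe u

/-- Normality can be checked at maximal ideals. -/
theorem isNormalRing_of_forall_isMaximal {R : Type u} [CommRing R]
    (h : ∀ (m : Ideal R) [m.IsMaximal],
      IsDomain (Localization.AtPrime m) ∧ IsIntegrallyClosed (Localization.AtPrime m)) :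
    EGA4.IsNormalRing R := by
  intro p hp
  obtain ⟨m, hm, hpm⟩ := Ideal.exists_le_maximal p hp.ne_top
  haveI := hm
  obtain ⟨h1, h2⟩ := h m
  have hdisj : Disjoint (m.primeCompl : Set R) (p : Set R) := by
    rw [Set.disjoint_left]
    intro a ha hap
    exact ha (hpm hap)
  have hprime : (p.map (algebraMap R (Localization.AtPrime m))).IsPrime :=
    IsLocalization.isPrime_of_isPrime_disjoint m.primeCompl _ _ hp hdisj
  have hcomap : (p.map (algebraMap R (Localization.AtPrime m))).comap
      (algebraMap R (Localization.AtPrime m)) = p :=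
    IsLocalization.under_map_of_isPrime_disjoint m.primeCompl _ hp hdisj
  refine normalAt_of_isLocalization m.primeCompl _ p hcomap ?_
  have hle : (p.map (algebraMap R (Localization.AtPrime m))).primeCompl ≤
      nonZeroDivisors (Localization.AtPrime m) := Ideal.primeCompl_le_nonZeroDivisors _
  exact ⟨IsLocalization.isDomain_localization hle,
    isIntegrallyClosed_of_isLocalization _ _ hle⟩

section Pointwise

attribute [local instance] Curv2.stalkAlgebra

variable (k : Type u) [Field k] (X : Scheme.{u}) [X.Over (Spec (CommRingCat.of k))] (x : X)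

/-- If `k' ⊗ O_{X,x}` is normal then all local rings of `X_{k'}` over `x` are normal domains. -/
theorem stalk_normal_of_isNormalRing_tensor (k' : Type u) [Field k'] [Algebra k k']
    (h : EGA4.IsNormalRing (k' ⊗[k] ↥(X.presheaf.stalk x)))
    (x' : ↥(Curv2.bc k X k')) (hx' : Curv2.bcFst k X k' x' = x) :
    IsDomain ↥((Curv2.bc k X k').presheaf.stalk x') ∧
      IsIntegrallyClosed ↥((Curv2.bc k X k').presheaf.stalk x') := by
  obtain ⟨q, -, ⟨e⟩⟩ := Groth.Agent.S1560.exists_stalk_equiv_of_mem
    (X ↘ Spec (CommRingCat.of k)) x (Groth.Agent.S1560.specMap_stalkMap k X x) x'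
    (IsLocalRing.closedPoint _) (by rw [Scheme.fromSpecStalk_closedPoint]; exact hx')
  have h' : EGA4.IsNormalRing (↥(X.presheaf.stalk x) ⊗[k] k') :=
    isNormalRing_of_ringEquiv (Algebra.TensorProduct.comm k k' _).toRingEquiv h
  obtain ⟨h1, h2⟩ := h' q.asIdeal
  exact ⟨e.toMulEquiv.isDomain _, IsIntegrallyClosed.of_equiv e.symm⟩

/-- For algebraic `k'`, if all local rings of `X_{k'}` over `x` are normal domains then
`k' ⊗ O_{X,x}` is normal. -/
theorem isNormalRing_tensor_of_stalk_normal (k' : Type u) [Field k'] [Algebra k k']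
    [Algebra.IsAlgebraic k k']
    (h : ∀ x' : ↥(Curv2.bc k X k'), Curv2.bcFst k X k' x' = x →
      IsDomain ↥((Curv2.bc k X k').presheaf.stalk x') ∧
        IsIntegrallyClosed ↥((Curv2.bc k X k').presheaf.stalk x')) :
    EGA4.IsNormalRing (k' ⊗[k] ↥(X.presheaf.stalk x)) := by
  refine isNormalRing_of_ringEquiv (Algebra.TensorProduct.comm k _ k').toRingEquiv ?_
  refine isNormalRing_of_forall_isMaximal fun J hJ => ?_
  haveI : Algebra.IsIntegral k k' := Algebra.IsAlgebraic.isIntegral
  haveI hmax : (J.comap (algebraMap (X.presheaf.stalk x)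
      (X.presheaf.stalk x ⊗[k] k'))).IsMaximal :=
    Ideal.isMaximal_comap_of_isIntegral_of_isMaximal J
  obtain ⟨x', hx'1, ⟨e⟩⟩ := Groth.Agent.S1541.exists_point_stalk_equiv
    (X ↘ Spec (CommRingCat.of k)) x (Groth.Agent.S1560.specMap_stalkMap k X x)
    ⟨J, hJ.isPrime⟩
  have hcl : (PrimeSpectrum.comap (algebraMap (X.presheaf.stalk x) (X.presheaf.stalk x ⊗[k] k'))
      ⟨J, hJ.isPrime⟩) = IsLocalRing.closedPoint (X.presheaf.stalk x) := by
    apply PrimeSpectrum.ext
    exact IsLocalRing.eq_maximalIdeal hmax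
  rw [hcl, Scheme.fromSpecStalk_closedPoint] at hx'1
  obtain ⟨h1, h2⟩ := h x' hx'1
  exact ⟨e.symm.toMulEquiv.isDomain _, IsIntegrallyClosed.of_equiv e⟩

end Pointwise

end Groth.Agent.Lib.Helper6.Normal
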