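import Mathlib
import Groth.Prelude.Def_EGA4b
import Groth.Prelude.Def_Pi1
import Groth.Agent.Lib.Helper6.Normal.Scheme
import Groth.Agent.Lib.Helper6.Normal.GeomRed

/-!
# Normal schemes: base change along geometrically reduced field extensions
-/

open CategoryTheory AlgebraicGeometry Limits TensorProduct

namespace Groth.Agent.Lib.Helper6.Normal

universe u

theorem isNormalScheme_of_isOpenImmersion {X Y : Scheme.{u}} (f : Y ⟶ X) [IsOpenImmersion f]
    (hX : Pi1.IsNormalScheme X) : Pi1.IsNormalScheme Y := by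
  intro y
  obtain ⟨h1, h2⟩ := hX (f y)
  let e : X.presheaf.stalk (f y) ≃+* Y.presheaf.stalk y :=
    (asIso (f.stalkMap y)).commRingCatIsoToRingEquiv
  exact ⟨e.symm.toMulEquiv.isDomain _, IsIntegrallyClosed.of_equiv e⟩

theorem isNormalScheme_of_openCover {Y : Scheme.{u}} (𝒰 : Y.OpenCover)
    (h : ∀ i, Pi1.IsNormalScheme (𝒰.X i)) : Pi1.IsNormalScheme Y := by
  intro y
  obtain ⟨i, z, rfl⟩ := 𝒰.exists_eq y
  obtain ⟨h1, h2⟩ := h i z
  let e : Y.presheaf.stalk ((𝒰.f i) z) ≃+* (𝒰.X i).presheaf.stalk z :=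
    (asIso ((𝒰.f i).stalkMap z)).commRingCatIsoToRingEquiv
  exact ⟨e.toMulEquiv.isDomain _, IsIntegrallyClosed.of_equiv e.symm⟩

theorem isNormalScheme_Spec_iff (R : CommRingCat.{u}) :
    Pi1.IsNormalScheme (Spec R) ↔ EGA4.IsNormalRing R := by
  have key := isNormalRing_iff_affine (isAffineOpen_top (Spec R))
  let e : Γ(Spec R, ⊤) ≃+* R := (Scheme.ΓSpecIso R).commRingCatIsoToRingEquiv
  constructor
  · intro h
    exact isNormalRing_of_ringEquiv e (key.mpr fun x _ => h x)
  · intro h x
    exact key.mp (isNormalRing_of_ringEquiv e.symm h) x trivial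

/-- Geometric reducedness of `Spec K ⟶ Spec k` gives the algebraic notion. -/
theorem isGeometricallyReduced_of_geometricallyReduced (k K : Type u) [Field k] [Field K]
    [Algebra k K] [GeometricallyReduced (Spec.map (CommRingCat.ofHom (algebraMap k K)))] :
    Algebra.IsGeometricallyReduced k K := by
  rw [Algebra.isGeometricallyReduced_field_iff]
  let L := AlgebraicClosure k
  have h1 : IsReduced (pullback (Spec.map (CommRingCat.ofHom (algebraMap k K)))
      (Spec.map (CommRingCat.ofHom (algebraMap k L)))) :=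
    pullback_of_geometrically (GeometricallyReduced.geometrically_isReduced) L _
  have h2 : IsReduced (Spec (CommRingCat.of (K ⊗[k] L))) :=
    isReduced_of_isOpenImmersion (pullbackSpecIso k K L).inv
  have h3 : _root_.IsReduced (K ⊗[k] L) := (affine_isReduced_iff (CommRingCat.of (K ⊗[k] L))).mp h2
  exact isReduced_of_injective (Algebra.TensorProduct.comm k L K).toRingEquiv.toRingHom
    (Algebra.TensorProduct.comm k L K).injective

/-- Base change of a normal scheme over a field along a geometrically reduced extension. -/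
theorem isNormalScheme_pullback_of_geometricallyReduced (k K : Type u) [Field k] [Field K]
    [Algebra k K] [GeometricallyReduced (Spec.map (CommRingCat.ofHom (algebraMap k K)))]
    {X : Scheme.{u}} (s : X ⟶ Spec (CommRingCat.of k)) (hX : Pi1.IsNormalScheme X) :
    Pi1.IsNormalScheme (pullback s (Spec.map (CommRingCat.ofHom (algebraMap k K)))) := by
  have hgr := isGeometricallyReduced_of_geometricallyReduced k K
  let g := Spec.map (CommRingCat.ofHom (algebraMap k K))
  let 𝒜 := X.affineOpenCover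
  refine isNormalScheme_of_openCover (𝒜.openCover.pullback₂ (pullback.fst s g)) fun i => ?_
  change Pi1.IsNormalScheme (pullback (𝒜.f i) (pullback.fst s g))
  have hR : EGA4.IsNormalRing (𝒜.X i) :=
    (isNormalScheme_Spec_iff _).mp (isNormalScheme_of_isOpenImmersion (𝒜.f i) hX)
  obtain ⟨φ, hφ⟩ := Spec.map_surjective (𝒜.f i ≫ s)
  let _ : Algebra k (𝒜.X i) := φ.hom.toAlgebra
  have hN : EGA4.IsNormalRing ((𝒜.X i) ⊗[k] K) :=
    isNormalRing_of_ringEquiv (Algebra.TensorProduct.comm k K (𝒜.X i)).toRingEquiv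
      (isNormalRing_tensor_of_isGeometricallyReduced k (𝒜.X i) K hR)
  have hS : Pi1.IsNormalScheme (Spec (CommRingCat.of ((𝒜.X i) ⊗[k] K))) :=
    (isNormalScheme_Spec_iff _).mpr hN
  let e1 : pullback (𝒜.f i) (pullback.fst s g) ≅ pullback (𝒜.f i ≫ s) g :=
    pullbackRightPullbackFstIso s g (𝒜.f i)
  let e2 : pullback (𝒜.f i ≫ s) g ≅
      pullback (Spec.map (CommRingCat.ofHom (algebraMap k (𝒜.X i)))) g :=
    pullback.congrHom hφ.symm rfl
  let e3 : pullback (Spec.map (CommRingCat.ofHom (algebraMap k (𝒜.X i)))) g ≅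
      Spec (CommRingCat.of ((𝒜.X i) ⊗[k] K)) := pullbackSpecIso k (𝒜.X i) K
  exact isNormalScheme_of_isOpenImmersion (e1 ≪≫ e2 ≪≫ e3).hom hS

end Groth.Agent.Lib.Helper6.Normal
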