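import Mathlib

/-!
# Extending maps from the generic fibre (ring level)
-/

open TensorProduct

namespace Groth.Agent.Lib.Helper6.Normal

universe u

section
variable (R S K : Type u) [CommRing R] [IsDomain R] [IsIntegrallyClosed R] [CommRing S]
  [Algebra R S] [Algebra.Etale R S] [Field K] [Algebra R K] [IsFractionRing R K]

lemma hcl_etale' (x : S ⊗[R] K) (hx : IsIntegral S x) :
    ∃ s, algebraMap S (S ⊗[R] K) s = x := by
  obtain ⟨z, hz⟩ := (TensorProduct.toIntegralClosure_bijective_of_smooth (R := R) (S := S)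
    (B := K)).2 ⟨x, hx⟩
  have key : ∀ z : S ⊗[R] integralClosure R K, ∃ s : S,
      algebraMap S (S ⊗[R] K) s =
        (TensorProduct.toIntegralClosure R S K z : S ⊗[R] K) := by
    intro z
    induction z with
    | zero => exact ⟨0, by simp⟩
    | add a b ha hb =>
      obtain ⟨s1, h1⟩ := ha
      obtain ⟨s2, h2⟩ := hb
      exact ⟨s1 + s2, by rw [map_add, map_add, h1, h2]; rfl⟩
    | tmul s y =>
      obtain ⟨r, hr⟩ := IsIntegrallyClosed.algebraMap_eq_of_integral y.2
      refine ⟨r • s, ?_⟩
      have h1 : (TensorProduct.toIntegralClosure R S K (s ⊗ₜ y) :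
          S ⊗[R] K) = s ⊗ₜ (y : K) := rfl
      rw [h1, ← hr, Algebra.TensorProduct.algebraMap_apply, Algebra.algebraMap_self,
        RingHom.id_apply, Algebra.algebraMap_eq_smul_one, TensorProduct.smul_tmul]
  obtain ⟨s, hs⟩ := key z
  exact ⟨s, by rw [hs, hz]⟩

lemma includeLeft_injective_frac :
    Function.Injective (algebraMap S (S ⊗[R] K)) :=
  Algebra.TensorProduct.includeLeft_injective (R := R) (S := S) (A := S) (B := K)
    (IsFractionRing.injective R K)

/-- An `R`-algebra map from an integral `R`-algebra to `S ⊗ K` (with `S` étale over the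
integrally closed domain `R` with fraction field `K`) factors through `S`. -/
theorem exists_lift_of_isIntegral (C : Type u) [CommRing C] [Algebra R C] [Algebra.IsIntegral R C]
    (τ : C →ₐ[R] S ⊗[R] K) :
    ∃ σ : C →ₐ[R] S, ∀ c, algebraMap S (S ⊗[R] K) (σ c) = τ c := by
  have hinj := includeLeft_injective_frac R S K
  have hex : ∀ c : C, ∃ s : S, algebraMap S (S ⊗[R] K) s = τ c := by
    intro c
    apply hcl_etale' R S K
    have h1 : IsIntegral R (τ c) := (Algebra.IsIntegral.isIntegral (R := R) c).map τ
    exact h1.tower_top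
  choose σ hσ using hex
  refine ⟨{ toFun := σ, map_one' := ?_, map_mul' := ?_, map_zero' := ?_, map_add' := ?_,
            commutes' := ?_ }, hσ⟩
  · apply hinj; rw [hσ, map_one, map_one]
  · intro a b; apply hinj; rw [hσ, map_mul, map_mul, hσ, hσ]
  · apply hinj; rw [hσ, map_zero, map_zero]
  · intro a b; apply hinj; rw [hσ, map_add, map_add, hσ, hσ]
  · intro r; apply hinj
    rw [hσ, AlgHom.commutes, ← IsScalarTower.algebraMap_apply]

end

end Groth.Agent.Lib.Helper6.Normal
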