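import Mathlib
import Groth.Agent.Lib.Helper6.Normal.Extend

/-!
# Extending maps from the generic fibre (affine scheme level)
-/

open TensorProduct CategoryTheory CategoryTheory.Limits AlgebraicGeometry

namespace Groth.Agent.Lib.Helper6.Normal

universe u

/-- Local extension lemma: over the spectrum of an integrally closed domain `A` with fraction
field `K`, a morphism from the generic fibre of an étale affine `Spec B` to an integral
`A`-scheme `Y'` extends to `Spec B`. -/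
theorem exists_hom_of_isPullback_Spec (A B K : Type u) [CommRing A] [IsDomain A]
    [IsIntegrallyClosed A] [CommRing B] [Algebra A B] [Algebra.Etale A B] [Field K] [Algebra A K]
    [IsFractionRing A K] {P Y' : Scheme.{u}} (fst : P ⟶ Spec (CommRingCat.of B))
    (snd : P ⟶ Spec (CommRingCat.of K))
    (h : IsPullback fst snd (Spec.map (CommRingCat.ofHom (algebraMap A B)))
      (Spec.map (CommRingCat.ofHom (algebraMap A K))))
    (f' : Y' ⟶ Spec (CommRingCat.of A)) [IsIntegralHom f']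
    (θ : P ⟶ Y') (hθ : θ ≫ f' = fst ≫ Spec.map (CommRingCat.ofHom (algebraMap A B))) :
    ∃ φ : Spec (CommRingCat.of B) ⟶ Y',
      φ ≫ f' = Spec.map (CommRingCat.ofHom (algebraMap A B)) ∧ fst ≫ φ = θ := by
  have : IsAffine Y' := isAffine_of_isAffineHom f'
  let ψ : CommRingCat.of A ⟶ Γ(Y', ⊤) := (Scheme.ΓSpecIso (CommRingCat.of A)).inv ≫ f'.appTop
  let _ : Algebra A Γ(Y', ⊤) := ψ.hom.toAlgebra
  have hψint : ψ.hom.IsIntegral := by
    have h1 : (f'.app ⊤).hom.IsIntegral := f'.isIntegral_app ⊤ (isAffineOpen_top _)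
    have h2 : ((Scheme.ΓSpecIso (CommRingCat.of A)).inv).hom.IsIntegral :=
      RingHom.isIntegral_of_surjective _
        (ConcreteCategory.bijective_of_isIso (Scheme.ΓSpecIso (CommRingCat.of A)).inv).2
    exact RingHom.IsIntegral.trans _ _ h2 h1
  have hint : Algebra.IsIntegral A Γ(Y', ⊤) := ⟨fun c => hψint c⟩
  -- key formula
  have hkey : ∀ {D : CommRingCat.{u}} (ρ : Γ(Y', ⊤) ⟶ D),
      (Spec.map ρ ≫ Y'.isoSpec.inv) ≫ f' = Spec.map (ψ ≫ ρ) := by
    intro D ρ
    rw [Category.assoc, ← Scheme.isoSpec_inv_naturality, Scheme.isoSpec_Spec_inv,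
      ← Spec.map_comp, ← Spec.map_comp, Category.assoc]
  let e : P ≅ Spec (CommRingCat.of (B ⊗[A] K)) := h.isoPullback ≪≫ pullbackSpecIso A B K
  have he_fst : e.inv ≫ fst = Spec.map (CommRingCat.ofHom (algebraMap B (B ⊗[A] K))) := by
    simp only [e, Iso.trans_inv, Category.assoc, IsPullback.isoPullback_inv_fst]
    exact pullbackSpecIso_inv_fst' A B K
  obtain ⟨θ₀, hθ₀def⟩ : ∃ θ₀, θ₀ = e.inv ≫ θ := ⟨_, rfl⟩
  let τ : Γ(Y', ⊤) ⟶ CommRingCat.of (B ⊗[A] K) := θ₀.appTop ≫ (Scheme.ΓSpecIso _).hom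
  have hθ₀ : θ₀ = Spec.map τ ≫ Y'.isoSpec.inv := by
    rw [Iso.eq_comp_inv, ← Scheme.isoSpec_hom_naturality, Scheme.isoSpec_Spec_hom,
      ← Spec.map_comp]
  have hτψ : ψ ≫ τ = CommRingCat.ofHom (algebraMap A B) ≫
      CommRingCat.ofHom (algebraMap B (B ⊗[A] K)) := by
    apply Spec.map_injective
    rw [← hkey, ← hθ₀, hθ₀def, Category.assoc, hθ, ← Category.assoc, he_fst, ← Spec.map_comp]
  let τ' : Γ(Y', ⊤) →ₐ[A] B ⊗[A] K :=
    { τ.hom with
      commutes' := fun a => by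
        have := congr($(hτψ).hom a)
        have h0 : algebraMap A Γ(Y', ⊤) a = ψ.hom a := rfl
        change τ.hom (algebraMap A Γ(Y', ⊤) a) = _
        rw [h0]
        simpa [IsScalarTower.algebraMap_apply A B (B ⊗[A] K)] using this }
  obtain ⟨σ, hσ⟩ := exists_lift_of_isIntegral A B K Γ(Y', ⊤) τ'
  refine ⟨Spec.map (CommRingCat.ofHom σ.toRingHom) ≫ Y'.isoSpec.inv, ?_, ?_⟩
  · rw [hkey]
    congr 1
    ext a
    exact σ.commutes a
  · rw [← cancel_epi e.inv, ← Category.assoc, he_fst, ← Category.assoc, ← Spec.map_comp,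
      ← hθ₀def, hθ₀]
    congr 2
    ext c
    exact hσ c

/-- Variant with opaque structure morphisms. -/
theorem exists_hom_of_isPullback_Spec' (A B K : Type u) [CommRing A] [IsDomain A]
    [IsIntegrallyClosed A] [CommRing B] [Algebra A B] [Algebra.Etale A B] [Field K] [Algebra A K]
    [IsFractionRing A K] {P Y' : Scheme.{u}} (fst : P ⟶ Spec (CommRingCat.of B))
    (snd : P ⟶ Spec (CommRingCat.of K))
    (β : Spec (CommRingCat.of B) ⟶ Spec (CommRingCat.of A))
    (hβ : β = Spec.map (CommRingCat.ofHom (algebraMap A B)))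
    (α : Spec (CommRingCat.of K) ⟶ Spec (CommRingCat.of A))
    (hα : α = Spec.map (CommRingCat.ofHom (algebraMap A K)))
    (h : IsPullback fst snd β α)
    (f' : Y' ⟶ Spec (CommRingCat.of A)) [IsIntegralHom f']
    (θ : P ⟶ Y') (hθ : θ ≫ f' = fst ≫ β) :
    ∃ φ : Spec (CommRingCat.of B) ⟶ Y', φ ≫ f' = β ∧ fst ≫ φ = θ := by
  subst hβ hα
  exact exists_hom_of_isPullback_Spec A B K fst snd h f' θ hθ

end Groth.Agent.Lib.Helper6.Normal
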