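import Mathlib
import Groth.Prelude.Def_EGA4b
import Groth.Prelude.Def_Pi1
import Groth.Agent.Lib.Helper6.Normal.ExtendSpec
import Groth.Agent.Lib.Helper6.Normal.Scheme

/-!
# Extending maps from the generic fibre: chart level
-/

open TensorProduct CategoryTheory CategoryTheory.Limits AlgebraicGeometry

namespace Groth.Agent.Lib.Helper6.Normal

universe u

/-- Sections of a normal integral scheme over a nonempty affine open form an integrally closed
domain. -/
lemma isIntegrallyClosed_of_isNormalScheme {X : Scheme.{u}} [IsIntegral X]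
    (hX : Pi1.IsNormalScheme X) {W : X.Opens} (hW : IsAffineOpen W) [Nonempty W] :
    IsIntegrallyClosed Γ(X, W) := by
  have hA : EGA4.IsNormalRing Γ(X, W) := (isNormalRing_iff_affine hW).mpr fun x _ => hX x
  exact IsIntegrallyClosed.of_localization_maximal fun p _ _ => (hA p).2

variable {X Y Y' : Scheme.{u}} [IsIntegral X]

/-- Chart lemma. -/
theorem exists_chart_extend_aux (hX : Pi1.IsNormalScheme X)
    (f : Y ⟶ X) [Etale f] (f' : Y' ⟶ X) [IsIntegralHom f']
    (g : Spec X.functionField ⟶ X) (hg : g = X.fromSpecStalk (genericPoint X))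
    (θ : pullback f g ⟶ Y')
    (hθ : θ ≫ f' = pullback.fst _ _ ≫ f)
    {V : Y.Opens} (hV : IsAffineOpen V) {W : X.Opens} (hW : IsAffineOpen W)
    (hVW : V ≤ f ⁻¹ᵁ W) (hη : genericPoint X ∈ W) :
    ∃ ψ : Spec Γ(Y, V) ⟶ Y', ψ ≫ f' = hV.fromSpec ≫ f ∧
      ∀ {T : Scheme.{u}} (a : T ⟶ Spec Γ(Y, V))
        (b : T ⟶ pullback f g),
        a ≫ hV.fromSpec = b ≫ pullback.fst _ _ → a ≫ ψ = b ≫ θ := by
  have : Nonempty W := ⟨⟨_, hη⟩⟩
  have hic : IsIntegrallyClosed Γ(X, W) := isIntegrallyClosed_of_isNormalScheme hX hW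
  have hfr : IsFractionRing Γ(X, W) X.functionField :=
    functionField_isFractionRing_of_isAffineOpen X W hW
  let _ : Algebra Γ(X, W) Γ(Y, V) := (f.appLE W V hVW).hom.toAlgebra
  have het : Algebra.Etale Γ(X, W) Γ(Y, V) :=
    HasRingHomProperty.appLE (P := @Etale) f inferInstance ⟨W, hW⟩ ⟨V, hV⟩ hVW
  -- abbreviations
  obtain ⟨c, hc⟩ : ∃ c, c = hW.fromSpec := ⟨_, rfl⟩
  obtain ⟨j, hj⟩ : ∃ j, j = hV.fromSpec := ⟨_, rfl⟩
  have hcmono : Mono c := by rw [hc]; infer_instance
  obtain ⟨α, hα⟩ : ∃ α : Spec X.functionField ⟶ Spec Γ(X, W),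
      α = Spec.map (CommRingCat.ofHom (algebraMap Γ(X, W) X.functionField)) := ⟨_, rfl⟩
  obtain ⟨β, hβ⟩ : ∃ β : Spec Γ(Y, V) ⟶ Spec Γ(X, W),
      β = Spec.map (CommRingCat.ofHom (algebraMap Γ(X, W) Γ(Y, V))) := ⟨_, rfl⟩
  have hgc : g = α ≫ c := by
    rw [hg, hα, hc, ← hW.fromSpecStalk_eq_fromSpecStalk hη]
    rfl
  have hβc : β ≫ c = j ≫ f := by
    rw [hβ, hc, hj]
    exact IsAffineOpen.SpecMap_appLE_fromSpec f hW hV hVW
  -- the local generic fibre
  have hcond : pullback.fst β α ≫ β = pullback.snd β α ≫ α := pullback.condition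
  -- map to the global generic fibre
  have hm : (pullback.fst β α ≫ j) ≫ f = pullback.snd β α ≫ g := by
    rw [Category.assoc, ← hβc, ← Category.assoc, hcond, hgc, Category.assoc]
  -- lift of θ
  have hθ' : (pullback.lift _ _ hm ≫ θ) ≫ f' = (pullback.snd β α ≫ α) ≫ c := by
    rw [Category.assoc, hθ, ← Category.assoc, pullback.lift_fst, Category.assoc, ← hβc,
      ← Category.assoc, hcond]
  have hint : IsIntegralHom (pullback.snd f' c) := inferInstance
  have hθ'' : pullback.lift _ _ hθ' ≫ pullback.snd f' c = pullback.fst β α ≫ β := by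
    rw [pullback.lift_snd, hcond]
  have hpb : IsPullback (pullback.fst β α) (pullback.snd β α) β α := IsPullback.of_hasPullback _ _
  obtain ⟨φ, hφ1, hφ2⟩ := exists_hom_of_isPullback_Spec' Γ(X, W) Γ(Y, V) X.functionField
    _ _ β hβ α hα hpb (pullback.snd f' c) (pullback.lift _ _ hθ') hθ''
  refine ⟨φ ≫ pullback.fst f' c, ?_, ?_⟩
  · calc (φ ≫ pullback.fst f' c) ≫ f' = φ ≫ (pullback.fst f' c ≫ f') := Category.assoc _ _ _
      _ = φ ≫ (pullback.snd f' c ≫ c) := by rw [pullback.condition]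
      _ = (φ ≫ pullback.snd f' c) ≫ c := (Category.assoc _ _ _).symm
      _ = β ≫ c := by rw [hφ1]
      _ = hV.fromSpec ≫ f := by rw [hβc, hj]
  · intro T a b hab
    rw [← hj] at hab
    have hn : a ≫ β = (b ≫ pullback.snd _ _) ≫ α := by
      rw [← cancel_mono c]
      calc (a ≫ β) ≫ c = a ≫ (j ≫ f) := by rw [Category.assoc, hβc]
        _ = (a ≫ j) ≫ f := (Category.assoc _ _ _).symm
        _ = (b ≫ pullback.fst _ _) ≫ f := by rw [hab]
        _ = b ≫ (pullback.fst _ _ ≫ f) := Category.assoc _ _ _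
        _ = b ≫ (pullback.snd _ _ ≫ g) := by rw [pullback.condition]
        _ = ((b ≫ pullback.snd _ _) ≫ α) ≫ c := by
          have h3 : pullback.snd f g ≫ g = pullback.snd f g ≫ α ≫ c :=
            congrArg (fun t => pullback.snd f g ≫ t) hgc
          rw [h3]; simp only [Category.assoc]
    have hnm : pullback.lift _ _ hn ≫ pullback.lift _ _ hm = b := by
      apply pullback.hom_ext
      · calc (pullback.lift _ _ hn ≫ pullback.lift _ _ hm) ≫ pullback.fst f g
            = pullback.lift _ _ hn ≫ (pullback.lift _ _ hm ≫ pullback.fst f g) :=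
              Category.assoc _ _ _
          _ = pullback.lift _ _ hn ≫ (pullback.fst β α ≫ j) := by rw [pullback.lift_fst]
          _ = (pullback.lift _ _ hn ≫ pullback.fst β α) ≫ j := (Category.assoc _ _ _).symm
          _ = a ≫ j := by rw [pullback.lift_fst]
          _ = b ≫ pullback.fst f g := hab
      · calc (pullback.lift _ _ hn ≫ pullback.lift _ _ hm) ≫ pullback.snd f g
            = pullback.lift _ _ hn ≫ (pullback.lift _ _ hm ≫ pullback.snd f g) :=
              Category.assoc _ _ _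
          _ = pullback.lift _ _ hn ≫ pullback.snd β α := by rw [pullback.lift_snd]
          _ = b ≫ pullback.snd f g := pullback.lift_snd _ _ hn
    calc a ≫ φ ≫ pullback.fst f' c
        = (pullback.lift _ _ hn ≫ pullback.fst β α) ≫ φ ≫ pullback.fst f' c := by
          rw [pullback.lift_fst]
      _ = pullback.lift _ _ hn ≫ ((pullback.fst β α ≫ φ) ≫ pullback.fst f' c) := by
          simp only [Category.assoc]
      _ = pullback.lift _ _ hn ≫ (pullback.lift _ _ hθ' ≫ pullback.fst f' c) := by rw [hφ2]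
      _ = pullback.lift _ _ hn ≫ (pullback.lift _ _ hm ≫ θ) := by rw [pullback.lift_fst]
      _ = (pullback.lift _ _ hn ≫ pullback.lift _ _ hm) ≫ θ := (Category.assoc _ _ _).symm
      _ = b ≫ θ := by rw [hnm]

theorem exists_chart_extend (hX : Pi1.IsNormalScheme X)
    (f : Y ⟶ X) [Etale f] (f' : Y' ⟶ X) [IsIntegralHom f']
    (θ : pullback f (X.fromSpecStalk (genericPoint X)) ⟶ Y')
    (hθ : θ ≫ f' = pullback.fst _ _ ≫ f)
    {V : Y.Opens} (hV : IsAffineOpen V) {W : X.Opens} (hW : IsAffineOpen W)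
    (hVW : V ≤ f ⁻¹ᵁ W) (hη : genericPoint X ∈ W) :
    ∃ ψ : Spec Γ(Y, V) ⟶ Y', ψ ≫ f' = hV.fromSpec ≫ f ∧
      ∀ {T : Scheme.{u}} (a : T ⟶ Spec Γ(Y, V))
        (b : T ⟶ pullback f (X.fromSpecStalk (genericPoint X))),
        a ≫ hV.fromSpec = b ≫ pullback.fst _ _ → a ≫ ψ = b ≫ θ :=
  exists_chart_extend_aux hX f f' _ rfl θ hθ hV hW hVW hη

end Groth.Agent.Lib.Helper6.Normal
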