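import Mathlib
import Groth.Prelude.Def_Pi1
import Groth.Agent.Lib.Helper6.Normal.ExtendChart
import Groth.Agent.Lib.Helper6.GenFib.Basic

/-!
# Extending maps from the generic fibre: global statement
-/

open CategoryTheory CategoryTheory.Limits AlgebraicGeometry

namespace Groth.Agent.Lib.Helper6.Normal

universe u

variable {X Y Y' : Scheme.{u}} [IsIntegral X]

/-- Let `X` be a normal integral scheme, `Y` étale over `X` and `Y'` integral over `X`.
Every `X`-morphism from the generic fibre of `Y` to `Y'` extends to an `X`-morphism `Y ⟶ Y'`. -/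
theorem exists_extend_generic (hX : Pi1.IsNormalScheme X)
    (f : Y ⟶ X) [Etale f] (f' : Y' ⟶ X) [IsIntegralHom f']
    (θ : pullback f (X.fromSpecStalk (genericPoint X)) ⟶ Y')
    (hθ : θ ≫ f' = pullback.fst _ _ ≫ f) :
    ∃ φ : Y ⟶ Y', φ ≫ f' = f ∧
      pullback.fst f (X.fromSpecStalk (genericPoint X)) ≫ φ = θ := by
  let I := {p : Y.affineOpens × X.affineOpens //
    p.1.1 ≤ f ⁻¹ᵁ p.2.1 ∧ genericPoint X ∈ p.2.1}
  have hcov : ∀ y : Y, ∃ (i : I) (z : Spec Γ(Y, i.1.1.1)), i.1.1.2.fromSpec z = y := by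
    intro y
    obtain ⟨_, ⟨W, hW : IsAffineOpen W, rfl⟩, hxW, -⟩ :=
      X.isBasis_affineOpens.exists_subset_of_mem_open (Set.mem_univ (f y)) isOpen_univ
    obtain ⟨_, ⟨V, hV : IsAffineOpen V, rfl⟩, hyV, hVW : V ≤ f ⁻¹ᵁ W⟩ :=
      Y.isBasis_affineOpens.exists_subset_of_mem_open (show y ∈ f ⁻¹ᵁ W from hxW)
        (f ⁻¹ᵁ W).isOpen
    have hη : genericPoint X ∈ W :=
      ((genericPoint_spec X).mem_open_set_iff W.isOpen).mpr ⟨f y, trivial, hxW⟩
    refine ⟨⟨(⟨V, hV⟩, ⟨W, hW⟩), hVW, hη⟩, ?_⟩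
    have : y ∈ Set.range hV.fromSpec := by rw [hV.range_fromSpec]; exact hyV
    exact this
  let 𝒰 : Y.OpenCover := Scheme.Cover.mkOfCovers I (fun i => Spec Γ(Y, i.1.1.1))
    (fun i => i.1.1.2.fromSpec) hcov (fun i => inferInstance)
  have hch : ∀ i : 𝒰.I₀, ∃ ψ : 𝒰.X i ⟶ Y', ψ ≫ f' = 𝒰.f i ≫ f ∧
      ∀ {T : Scheme.{u}} (a : T ⟶ 𝒰.X i)
        (b : T ⟶ pullback f (X.fromSpecStalk (genericPoint X))),
        a ≫ 𝒰.f i = b ≫ pullback.fst _ _ → a ≫ ψ = b ≫ θ :=
    fun i => exists_chart_extend hX f f' θ hθ i.1.1.2 i.1.2.2 i.2.1 i.2.2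
  choose ψ hψ1 hψ2 using hch
  have hsep : IsSeparated f' := inferInstance
  have hcompat : ∀ i j : 𝒰.I₀,
      pullback.fst (𝒰.f i) (𝒰.f j) ≫ ψ i = pullback.snd (𝒰.f i) (𝒰.f j) ≫ ψ j := by
    intro i j
    obtain ⟨q, hq⟩ : ∃ q : pullback (𝒰.f i) (𝒰.f j) ⟶ X,
        q = pullback.fst (𝒰.f i) (𝒰.f j) ≫ 𝒰.f i ≫ f := ⟨_, rfl⟩
    have hflat : Flat q := by rw [hq]; infer_instance
    refine GenFib.ext_of_isSchemeTheoreticallyDominant
      (pullback.fst q (X.fromSpecStalk (genericPoint X))) f' ?_ ?_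
    · rw [Category.assoc, Category.assoc, hψ1, hψ1]
      exact pullback.condition_assoc _
    · have hb : (pullback.fst q (X.fromSpecStalk (genericPoint X)) ≫
          pullback.fst (𝒰.f i) (𝒰.f j) ≫ 𝒰.f i) ≫ f =
          pullback.snd q _ ≫ X.fromSpecStalk (genericPoint X) := by
        rw [← pullback.condition, hq]
        simp only [Category.assoc]
      have h1 := hψ2 i (pullback.fst q (X.fromSpecStalk (genericPoint X)) ≫ pullback.fst _ _)
        (pullback.lift _ _ hb) (by rw [pullback.lift_fst, Category.assoc])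
      have h2 := hψ2 j (pullback.fst q (X.fromSpecStalk (genericPoint X)) ≫ pullback.snd _ _)
        (pullback.lift _ _ hb)
        (by rw [pullback.lift_fst, Category.assoc, pullback.condition])
      rw [← Category.assoc, ← Category.assoc, h1, h2]
  refine ⟨𝒰.glueMorphisms ψ hcompat, ?_, ?_⟩
  · refine 𝒰.hom_ext _ _ fun i => ?_
    rw [← Category.assoc, 𝒰.ι_glueMorphisms, hψ1]
  · refine Scheme.Cover.hom_ext
      (𝒰.pullback₁ (pullback.fst f (X.fromSpecStalk (genericPoint X)))) _ _ fun i => ?_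
    change pullback.fst (pullback.fst f (X.fromSpecStalk (genericPoint X))) (𝒰.f i) ≫
      pullback.fst f (X.fromSpecStalk (genericPoint X)) ≫ 𝒰.glueMorphisms ψ hcompat =
      pullback.fst (pullback.fst f (X.fromSpecStalk (genericPoint X))) (𝒰.f i) ≫ θ
    rw [← Category.assoc, pullback.condition, Category.assoc, 𝒰.ι_glueMorphisms]
    exact hψ2 i _ _ pullback.condition.symm

end Groth.Agent.Lib.Helper6.Normal
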