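import Mathlib
import Groth.Prelude.Def_Pi1
import Groth.Agent.Lib.Helper6.Normal.ExtendGlobal
import Groth.Agent.Lib.Helper6.GenFib.Basic

/-!
# Full faithfulness of restriction of finite étale covers to the generic point
-/

open CategoryTheory CategoryTheory.Limits AlgebraicGeometry

namespace Groth.Agent.Lib.Helper6.Normal

universe u

/-- Restriction of finite étale covers along a scheme-theoretically dominant quasi-compact
morphism is faithful. -/
theorem faithful_restrict {T X : Scheme.{u}} (j : T ⟶ X) [IsSchemeTheoreticallyDominant j]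
    [QuasiCompact j] : (FEt.restrict j).Faithful := by
  constructor
  intro Y Y' φ₁ φ₂ h
  have key : ∀ (p : Y.left ⟶ X) (p' : Y'.left ⟶ X) [Etale p] [IsFinite p']
      (a b : Y.left ⟶ Y'.left) (ha : a ≫ p' = p) (hb : b ≫ p' = p),
      pullback.lift (pullback.fst p j ≫ a) (pullback.snd p j)
        (by rw [Category.assoc, ha, pullback.condition]) =
      (pullback.lift (pullback.fst p j ≫ b) (pullback.snd p j)
        (by rw [Category.assoc, hb, pullback.condition]) : pullback p j ⟶ pullback p' j) →
      a = b := by
    intro p p' _ _ a b ha hb hab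
    have h2 : pullback.fst p j ≫ a = pullback.fst p j ≫ b := by
      have := congrArg (· ≫ pullback.fst p' j) hab
      simpa only [pullback.lift_fst] using this
    exact GenFib.ext_of_isSchemeTheoreticallyDominant (pullback.fst p j) p'
      (by rw [ha, hb]) h2
  have het : Etale Y.hom := Y.prop.2
  have hfin : IsFinite Y'.hom := Y'.prop.1
  have h1 : ((FEt.restrict j).map φ₁).left = ((FEt.restrict j).map φ₂).left := by rw [h]
  apply MorphismProperty.Over.Hom.ext
  exact key Y.hom Y'.hom φ₁.left φ₂.left (MorphismProperty.Over.w φ₁)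
    (MorphismProperty.Over.w φ₂) h1

/-- Restriction of finite étale covers of a normal integral scheme to the generic point
is full. -/
theorem full_restrict_generic {X : Scheme.{u}} [IsIntegral X] (hX : Pi1.IsNormalScheme X) :
    (FEt.restrict (X.fromSpecStalk (genericPoint X))).Full := by
  constructor
  intro Y Y' ψ
  have key : ∀ (p : Y.left ⟶ X) (p' : Y'.left ⟶ X) [Etale p] [IsFinite p']
      (ψl : pullback p (X.fromSpecStalk (genericPoint X)) ⟶
        pullback p' (X.fromSpecStalk (genericPoint X))),
      ψl ≫ pullback.snd p' _ = pullback.snd p _ →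
      ∃ (φ : Y.left ⟶ Y'.left) (h : φ ≫ p' = p),
        pullback.lift (pullback.fst p (X.fromSpecStalk (genericPoint X)) ≫ φ)
          (pullback.snd p _) (by rw [Category.assoc, h, pullback.condition]) = ψl := by
    intro p p' _ _ ψl hw
    obtain ⟨φ, hφ1, hφ2⟩ := exists_extend_generic hX p p'
      (ψl ≫ pullback.fst p' (X.fromSpecStalk (genericPoint X))) (by
        rw [Category.assoc, pullback.condition, ← Category.assoc, hw, pullback.condition])
    refine ⟨φ, hφ1, ?_⟩
    apply pullback.hom_ext
    · rw [pullback.lift_fst, hφ2]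
    · rw [pullback.lift_snd, hw]
  have het : Etale Y.hom := Y.prop.2
  have hfin : IsFinite Y'.hom := Y'.prop.1
  obtain ⟨φ, h, e⟩ := key Y.hom Y'.hom ψ.left (MorphismProperty.Over.w ψ)
  refine ⟨MorphismProperty.Over.homMk φ h trivial, ?_⟩
  apply MorphismProperty.Over.Hom.ext
  exact e

end Groth.Agent.Lib.Helper6.Normal
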