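import Mathlib
import Groth.Prelude.Def_Pi1
import Groth.Agent.Lib.Helper6.Normal.FEtFF

/-!
# Full faithfulness of restriction of finite étale covers to a nonempty open
-/

open CategoryTheory CategoryTheory.Limits AlgebraicGeometry

namespace Groth.Agent.Lib.Helper6.Normal

universe u

variable {X : Scheme.{u}} [IsIntegral X]

lemma genericPoint_mem_of_nonempty (U : X.Opens) (hU : (U : Set X).Nonempty) :
    genericPoint X ∈ U := by
  obtain ⟨x, hx⟩ := hU
  exact ((genericPoint_spec X).mem_open_set_iff U.isOpen).mpr ⟨x, trivial, hx⟩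

instance quasiCompact_fromSpecStalkOfMem (U : X.Opens) (h : genericPoint X ∈ U) :
    QuasiCompact (U.fromSpecStalkOfMem (genericPoint X) h) := by
  constructor
  intro V _ _
  have : Finite (Spec (X.presheaf.stalk (genericPoint X))) :=
    inferInstanceAs (Finite (PrimeSpectrum X.functionField))
  exact (Set.toFinite _).isCompact

lemma isDominant_fromSpecStalkOfMem (U : X.Opens) (h : genericPoint X ∈ U) :
    IsDominant (U.fromSpecStalkOfMem (genericPoint X) h) := by
  constructor
  have hd : DenseRange (X.fromSpecStalk (genericPoint X)) :=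
    (GenFib.isDominant_fromSpecStalk_genericPoint (T := X)).1
  rw [DenseRange, U.ι.isOpenEmbedding.isInducing.dense_iff]
  intro x
  have h1 : (U.ι : U → X) '' Set.range (U.fromSpecStalkOfMem (genericPoint X) h) =
      Set.range (X.fromSpecStalk (genericPoint X)) := by
    rw [← Set.range_comp, ← U.fromSpecStalkOfMem_ι (genericPoint X) h]
    rfl
  rw [h1, hd.closure_eq]
  trivial

theorem full_faithful_restrict_open (hX : Pi1.IsNormalScheme X) (U : X.Opens)
    (hU : (U : Set X).Nonempty) :
    (FEt.restrict U.ι).Full ∧ (FEt.restrict U.ι).Faithful := by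
  have hη := genericPoint_mem_of_nonempty U hU
  have : Nonempty U := ⟨⟨_, hη⟩⟩
  have hdom := isDominant_fromSpecStalkOfMem U hη
  have hsd : IsSchemeTheoreticallyDominant (U.fromSpecStalkOfMem (genericPoint X) hη) :=
    .of_isDominant _
  have hGf : (FEt.restrict (U.fromSpecStalkOfMem (genericPoint X) hη)).Faithful :=
    faithful_restrict _
  have hFfull := full_restrict_generic hX
  have hFfaith : (FEt.restrict (X.fromSpecStalk (genericPoint X))).Faithful :=
    faithful_restrict _
  let e : FEt.restrict (X.fromSpecStalk (genericPoint X)) ≅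
      FEt.restrict U.ι ⋙ FEt.restrict (U.fromSpecStalkOfMem (genericPoint X) hη) :=
    MorphismProperty.Over.pullbackComp (U.fromSpecStalkOfMem (genericPoint X) hη) U.ι
      (X.fromSpecStalk (genericPoint X)) (U.fromSpecStalkOfMem_ι (genericPoint X) hη).symm
  exact ⟨Functor.Full.of_comp_faithful_iso e.symm, Functor.Faithful.of_comp_iso e.symm⟩

end Groth.Agent.Lib.Helper6.Normal
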