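import Mathlib
import Groth.Agent.Lib.Helper6.Normal.GeomRed
import Groth.Agent.Lib.Helper6.Normal.SepGenRed

/-!
# MacLane's criterion: `k^{1/p} ⊗ K` reduced implies `K/k` separable
-/

open TensorProduct

namespace Groth.Agent.Lib.Helper6.Normal

universe u

/-- If `L` contains `p`-th roots of all elements of `k` and `L ⊗ K` is reduced, then `k`-linearly
independent elements of `K` have `k`-linearly independent `p`-th powers. -/
theorem linearIndepOn_pow_of_isReduced_tensor (k K L : Type u) [Field k] [Field K]
    [Algebra k K] [Field L] [Algebra k L] (p : ℕ) (hp : p.Prime) [ExpChar k p]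
    (hroot : ∀ c : k, ∃ d : L, d ^ p = algebraMap k L c) (hred : IsReduced (L ⊗[k] K))
    (s : Finset K) (hs : LinearIndepOn k id (s : Set K)) :
    LinearIndepOn k (· ^ p) (s : Set K) := by
  classical
  have hL : ExpChar L p := expChar_of_injective_algebraMap (algebraMap k L).injective p
  have hinjL : Function.Injective (algebraMap L (L ⊗[k] K)) :=
    Algebra.TensorProduct.includeLeft_injective (R := k) (S := L) (A := L) (B := K)
      (algebraMap k K).injective
  have hT : ExpChar (L ⊗[k] K) p := expChar_of_injective_algebraMap hinjL p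
  rw [LinearIndepOn, Fintype.linearIndependent_iff]
  intro c hc i
  have hd : ∀ i, ∃ d : L, d ^ p = algebraMap k L (c i) := fun i => hroot (c i)
  choose d hd using hd
  have hξp : (∑ i : (s : Set K), d i ⊗ₜ[k] (i : K)) ^ p = 0 := by
    rw [sum_pow_char]
    have : ∀ i : (s : Set K), (d i ⊗ₜ[k] (i : K)) ^ p = (1 : L) ⊗ₜ[k] (c i • (i : K) ^ p) := by
      intro i
      rw [Algebra.TensorProduct.tmul_pow, hd, Algebra.algebraMap_eq_smul_one,
        TensorProduct.smul_tmul]
    simp_rw [this]
    rw [← TensorProduct.tmul_sum, hc, TensorProduct.tmul_zero]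
  have hξ : (∑ i : (s : Set K), d i ⊗ₜ[k] (i : K)) = 0 := IsReduced.eq_zero _ ⟨p, hξp⟩
  have hli := Module.Flat.linearIndependent_one_tmul (S := L) hs
  rw [Fintype.linearIndependent_iff] at hli
  have hdi : d i = 0 := by
    refine hli d ?_ i
    rw [← hξ]
    refine Finset.sum_congr rfl fun j _ => ?_
    rw [TensorProduct.smul_tmul', smul_eq_mul, mul_one]
    rfl
  have := hd i
  rw [hdi, zero_pow hp.ne_zero] at this
  exact (map_eq_zero_iff _ (algebraMap k L).injective).mp this.symm

/-- MacLane's criterion for finitely generated field extensions. -/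
theorem isGeometricallyReduced_of_isReduced_tensor_of_essFiniteType (k K L : Type u) [Field k]
    [Field K] [Algebra k K] [Algebra.EssFiniteType k K] [Field L] [Algebra k L] (p : ℕ)
    (hp : p.Prime) [ExpChar k p]
    (hroot : ∀ c : k, ∃ d : L, d ^ p = algebraMap k L c) (hred : IsReduced (L ⊗[k] K)) :
    Algebra.IsGeometricallyReduced k K := by
  obtain ⟨s, hs, hsep⟩ :=
    exists_isTranscendenceBasis_and_isSeparable_of_linearIndepOn_pow_of_essFiniteType p hp
      (fun s hs => linearIndepOn_pow_of_isReduced_tensor k K L p hp hroot hred s hs)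
  exact isGeometricallyReduced_of_sepGen k K s hs hsep

/-- MacLane's criterion for arbitrary field extensions. -/
theorem isGeometricallyReduced_of_isReduced_tensor (k K L : Type u) [Field k]
    [Field K] [Algebra k K] [Field L] [Algebra k L] (p : ℕ)
    (hp : p.Prime) [ExpChar k p]
    (hroot : ∀ c : k, ∃ d : L, d ^ p = algebraMap k L c) (hred : IsReduced (L ⊗[k] K)) :
    Algebra.IsGeometricallyReduced k K := by
  refine Algebra.IsGeometricallyReduced.of_forall_fg fun B hB => ?_
  obtain ⟨s, hs⟩ := hB
  have hle : B ≤ (IntermediateField.adjoin k (s : Set K)).toSubalgebra := by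
    rw [← hs]
    exact IntermediateField.algebra_adjoin_le_adjoin k _
  haveI : Algebra.EssFiniteType k (IntermediateField.adjoin k (s : Set K)) := by
    rw [IntermediateField.essFiniteType_iff]
    exact ⟨s, rfl⟩
  have hred' : IsReduced (L ⊗[k] (IntermediateField.adjoin k (s : Set K))) :=
    isReduced_of_injective
      (Algebra.TensorProduct.map (AlgHom.id k L) (IntermediateField.val _))
      (Module.Flat.lTensor_preserves_injective_linearMap
        (IntermediateField.val (IntermediateField.adjoin k (s : Set K))).toLinearMap
        Subtype.val_injective)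
  haveI := isGeometricallyReduced_of_isReduced_tensor_of_essFiniteType k
    (IntermediateField.adjoin k (s : Set K)) L p hp hroot hred'
  exact Algebra.IsGeometricallyReduced.of_injective (Subalgebra.inclusion hle)
    (Subalgebra.inclusion_injective hle)

end Groth.Agent.Lib.Helper6.Normal
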