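import Mathlib
import Groth.Agent.S1543
import Groth.Agent.Lib.Helper6.Normal.MacLane

/-!
# Geometric reducedness and the Frobenius twist
-/

open CategoryTheory CategoryTheory.Limits AlgebraicGeometry TensorProduct

namespace Groth.Agent.Lib.Helper6.Normal

universe u

/-- The field `k` seen as a `k`-algebra through the Frobenius. -/
def FrobTwist (k : Type u) (_p : ℕ) : Type u := k

noncomputable instance (k : Type u) [Field k] (p : ℕ) : Field (FrobTwist k p) :=
  inferInstanceAs (Field k)

noncomputable instance frobTwistAlgebra (k : Type u) [Field k] (p : ℕ) [Fact p.Prime] [CharP k p] :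
    Algebra k (FrobTwist k p) :=
  (frobenius k p).toAlgebra

lemma algebraMap_frobTwist (k : Type u) [Field k] (p : ℕ) [Fact p.Prime] [CharP k p] (c : k) :
    algebraMap k (FrobTwist k p) c = (show FrobTwist k p from c) ^ p := rfl

lemma frobTwist_root (k : Type u) [Field k] (p : ℕ) [Fact p.Prime] [CharP k p] (c : k) :
    ∃ d : FrobTwist k p, d ^ p = algebraMap k (FrobTwist k p) c := ⟨c, rfl⟩

instance (k : Type u) [Field k] (p : ℕ) [Fact p.Prime] [CharP k p] :
    Algebra.IsAlgebraic k (FrobTwist k p) := by
  haveI : Algebra.IsIntegral k (FrobTwist k p) := by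
    constructor
    intro x
    refine ⟨Polynomial.X ^ p - Polynomial.C (show k from x),
      Polynomial.monic_X_pow_sub_C _ (Fact.out : p.Prime).ne_zero, ?_⟩
    rw [Polynomial.eval₂_sub, Polynomial.eval₂_pow, Polynomial.eval₂_X, Polynomial.eval₂_C,
      algebraMap_frobTwist]
    exact sub_self _
  exact Algebra.IsIntegral.isAlgebraic

section Field

/-- On a reduced scheme, the local ring at the generic point of an irreducible component has a
single prime ideal. -/
theorem stalk_prime_eq_of_isGenericPoint {X : Scheme.{u}} (Z : Set X)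
    (hZ : Z ∈ irreducibleComponents (X : Type u)) (η : X) (hη : IsGenericPoint η Z)
    (P : PrimeSpectrum (X.presheaf.stalk η)) : P = IsLocalRing.closedPoint _ := by
  have h1 : X.fromSpecStalk η P ∈ Set.range (X.fromSpecStalk η) := ⟨P, rfl⟩
  rw [Scheme.range_fromSpecStalk] at h1
  have h1' : X.fromSpecStalk η P ⤳ η := h1
  have hirr : IsIrreducible (closure ({X.fromSpecStalk η P} : Set X)) :=
    isIrreducible_singleton.closure
  have hle : Z ≤ closure ({X.fromSpecStalk η P} : Set X) := by
    rw [← hη.def]
    exact closure_minimal (Set.singleton_subset_iff.mpr (specializes_iff_mem_closure.mp h1'))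
      isClosed_closure
  have hge : closure ({X.fromSpecStalk η P} : Set X) ≤ Z := hZ.2 hirr hle
  have h2 : η ⤳ X.fromSpecStalk η P := by
    rw [specializes_iff_mem_closure, hη.def]
    exact hge (subset_closure rfl)
  have h3 : X.fromSpecStalk η P = η := (h1'.antisymm h2).eq
  have h4 : X.fromSpecStalk η P = X.fromSpecStalk η (IsLocalRing.closedPoint _) := by
    rw [h3, Scheme.fromSpecStalk_closedPoint]
  exact (X.fromSpecStalk η).isEmbedding.injective h4

theorem maximalIdeal_stalk_eq_bot {X : Scheme.{u}} [IsReduced X] (Z : Set X)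
    (hZ : Z ∈ irreducibleComponents (X : Type u)) (η : X) (hη : IsGenericPoint η Z) :
    IsLocalRing.maximalIdeal (X.presheaf.stalk η) = ⊥ := by
  rw [eq_bot_iff]
  intro a ha
  have hnil : a ∈ nilradical (X.presheaf.stalk η) := by
    rw [nilradical_eq_sInf, Ideal.mem_sInf]
    intro J hJ
    have := stalk_prime_eq_of_isGenericPoint Z hZ η hη ⟨J, hJ⟩
    have h' : J = IsLocalRing.maximalIdeal _ := congrArg PrimeSpectrum.asIdeal this
    rw [h']
    exact ha
  exact (mem_nilradical.mp hnil).eq_zero

/-- MacLane's criterion for a local ring with zero maximal ideal. -/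
theorem isGeometricallyReduced_of_maximalIdeal_eq_bot (k R L : Type u) [Field k] [CommRing R]
    [IsLocalRing R] [Algebra k R] [Field L] [Algebra k L] (p : ℕ) (hp : p.Prime) [ExpChar k p]
    (hroot : ∀ c : k, ∃ d : L, d ^ p = algebraMap k L c)
    (hbot : IsLocalRing.maximalIdeal R = ⊥) (hred : IsReduced (L ⊗[k] R)) :
    Algebra.IsGeometricallyReduced k R := by
  let φ : R →ₐ[k] IsLocalRing.ResidueField R :=
    IsScalarTower.toAlgHom k R (IsLocalRing.ResidueField R)
  have hinj : Function.Injective φ := by
    rw [injective_iff_map_eq_zero]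
    intro a ha
    have h1 : IsLocalRing.residue R a = 0 := ha
    have h2 : a ∈ IsLocalRing.maximalIdeal R := (IsLocalRing.residue_eq_zero_iff a).mp h1
    rw [hbot] at h2
    exact h2
  have hsurj : Function.Surjective φ := IsLocalRing.residue_surjective
  let e : R ≃ₐ[k] IsLocalRing.ResidueField R := AlgEquiv.ofBijective φ ⟨hinj, hsurj⟩
  have hred' : IsReduced (L ⊗[k] IsLocalRing.ResidueField R) :=
    isReduced_of_injective (Algebra.TensorProduct.congr (AlgEquiv.refl (R := k) (A₁ := L))
      e.symm).toAlgHom (Algebra.TensorProduct.congr (AlgEquiv.refl (R := k) (A₁ := L))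
      e.symm).injective
  haveI := isGeometricallyReduced_of_isReduced_tensor k (IsLocalRing.ResidueField R) L p hp
    hroot hred'
  exact Algebra.IsGeometricallyReduced.of_injective φ hinj

end Field

end Groth.Agent.Lib.Helper6.Normal
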