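import Mathlib
import Groth.Agent.Lib.Helper6.Normal.Insep466

/-!
# EGA IV 4.1.8-style: `P ⊗ K` Artinian iff a finite purely inseparable extension makes the
residue field geometrically reduced
-/

open TensorProduct

namespace Groth.Agent.Lib.Helper6.Normal

universe u

/-- Any field extension of a perfect field is geometrically reduced. -/
theorem isGeometricallyReduced_of_perfectField' (P L : Type u) [Field P] [Field L] [Algebra P L]
    [PerfectField P] : Algebra.IsGeometricallyReduced P L := by
  refine Algebra.IsGeometricallyReduced.of_forall_fg fun B hB => ?_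
  obtain ⟨s, hs⟩ := hB
  have hle : B ≤ (IntermediateField.adjoin P (s : Set L)).toSubalgebra := by
    rw [← hs]
    exact IntermediateField.algebra_adjoin_le_adjoin P _
  haveI : Algebra.EssFiniteType P (IntermediateField.adjoin P (s : Set L)) := by
    rw [IntermediateField.essFiniteType_iff]
    exact ⟨s, rfl⟩
  haveI := isGeometricallyReduced_of_perfectField P (IntermediateField.adjoin P (s : Set L))
  exact Algebra.IsGeometricallyReduced.of_injective (Subalgebra.inclusion hle)
    (Subalgebra.inclusion_injective hle)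

section Key

variable (k K P : Type u) [Field k] [Field K] [Algebra k K]
  [Field P] [Algebra k P] [IsPurelyInseparable k P]
  (k' : Type u) [Field k'] [Algebra k k'] [Algebra k' P] [IsScalarTower k k' P]

/-- The comparison isomorphism data: the ideal of `P ⊗ K` generated by the nilradical of
`k' ⊗ K` has quotient `P ⊗[k'] ((k' ⊗ K)/nilradical)`. -/
theorem exists_quotient_equiv :
    ∃ e : (P ⊗[k'] ((k' ⊗[k] K) ⧸ nilradical (k' ⊗[k] K))) ≃ₐ[P]
      ((P ⊗[k] K) ⧸ Ideal.map (natMap k K P k') (nilradical (k' ⊗[k] K))), True := by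
  let m := nilradical (k' ⊗[k] K)
  let e₁ : P ⊗[k'] ((k' ⊗[k] K) ⧸ m) ≃ₐ[P] (P ⊗[k'] (k' ⊗[k] K)) ⧸
      m.map (Algebra.TensorProduct.includeRight (R := k') (A := P) (B := k' ⊗[k] K)) :=
    Algebra.TensorProduct.tensorQuotientEquiv (R := k') P (k' ⊗[k] K) P m
  let e₂ : P ⊗[k'] (k' ⊗[k] K) ≃ₐ[P] P ⊗[k] K :=
    Algebra.TensorProduct.cancelBaseChange k k' P P K
  have hcomp : ∀ z : k' ⊗[k] K, e₂ ((1 : P) ⊗ₜ[k'] z) = natMap k K P k' z := by
    intro z
    induction z using TensorProduct.induction_on with
    | zero => simp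
    | tmul c x =>
      change e₂ ((1 : P) ⊗ₜ[k'] (c ⊗ₜ[k] x)) = (algebraMap k' P c) ⊗ₜ[k] x
      rw [Algebra.TensorProduct.cancelBaseChange_tmul]
      congr 1
      rw [Algebra.smul_def, mul_one]
    | add z₁ z₂ h₁ h₂ => rw [TensorProduct.tmul_add, map_add, map_add, h₁, h₂]
  have hJ : Ideal.map (natMap k K P k') m =
      (m.map (Algebra.TensorProduct.includeRight (R := k') (A := P) (B := k' ⊗[k] K))).map
        (e₂ : P ⊗[k'] (k' ⊗[k] K) →+* P ⊗[k] K) := by
    apply le_antisymm
    · rw [Ideal.map_le_iff_le_comap]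
      intro z hz
      rw [Ideal.mem_comap, ← hcomp z]
      exact Ideal.mem_map_of_mem _ (Ideal.mem_map_of_mem _ hz)
    · rw [Ideal.map_le_iff_le_comap, Ideal.map_le_iff_le_comap]
      intro z hz
      rw [Ideal.mem_comap, Ideal.mem_comap]
      change e₂ ((1 : P) ⊗ₜ[k'] z) ∈ _
      rw [hcomp z]
      exact Ideal.mem_map_of_mem _ hz
  exact ⟨e₁.trans (Ideal.quotientEquivAlg _ _ e₂ hJ), trivial⟩

omit [IsPurelyInseparable k P] in
lemma map_natMap_nilradical_le :
    Ideal.map (natMap k K P k') (nilradical (k' ⊗[k] K)) ≤ nilradical (P ⊗[k] K) := by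
  rw [Ideal.map_le_iff_le_comap]
  intro z hz
  rw [Ideal.mem_comap]
  exact mem_nilradical.mpr ((mem_nilradical.mp hz).map (natMap k K P k'))

set_option maxHeartbeats 1000000 in
/-- If the nilradical of `P ⊗ K` is generated by nilpotents of `k' ⊗ K`, the residue field of
`k' ⊗ K` is geometrically reduced over `k'` (no finiteness hypothesis on `K`). -/
theorem isGeometricallyReduced_quotient_nilradical [PerfectField P]
    (hN : nilradical (P ⊗[k] K) ≤ Ideal.map (natMap k K P k') (nilradical (k' ⊗[k] K))) :
    Algebra.IsGeometricallyReduced k' ((k' ⊗[k] K) ⧸ nilradical (k' ⊗[k] K)) := by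
  have : Algebra.IsAlgebraic k P := inferInstance
  have : Algebra.IsAlgebraic k' P := Algebra.IsAlgebraic.tower_top (K := k) k'
  obtain ⟨e, -⟩ := exists_quotient_equiv k K P k'
  have hEq : Ideal.map (natMap k K P k') (nilradical (k' ⊗[k] K)) = nilradical (P ⊗[k] K) :=
    le_antisymm (map_natMap_nilradical_le k K P k') hN
  have hNmax : (nilradical (P ⊗[k] K)).IsMaximal := nilradical_isMaximal k P K
  letI : Field ((P ⊗[k] K) ⧸ nilradical (P ⊗[k] K)) := Ideal.Quotient.field _
  have hgr : Algebra.IsGeometricallyReduced P ((P ⊗[k] K) ⧸ nilradical (P ⊗[k] K)) :=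
    isGeometricallyReduced_of_perfectField' P _
  let e' := e.trans (Ideal.quotientEquivAlgOfEq P hEq)
  have : Algebra.IsGeometricallyReduced P
      (P ⊗[k'] ((k' ⊗[k] K) ⧸ nilradical (k' ⊗[k] K))) :=
    Algebra.IsGeometricallyReduced.of_injective e'.toAlgHom e'.injective
  exact isGeometricallyReduced_of_tensor k' P ((k' ⊗[k] K) ⧸ nilradical (k' ⊗[k] K))

set_option maxHeartbeats 1000000 in
/-- If the residue field of `k' ⊗ K` is geometrically reduced over the finite extension `k'`,
then `P ⊗ K` is Artinian. -/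
theorem isArtinianRing_of_isGeometricallyReduced [Module.Finite k k']
    (h : Algebra.IsGeometricallyReduced k' ((k' ⊗[k] K) ⧸ nilradical (k' ⊗[k] K))) :
    IsArtinianRing (P ⊗[k] K) := by
  have : Algebra.IsAlgebraic k P := inferInstance
  have : Algebra.IsAlgebraic k' P := Algebra.IsAlgebraic.tower_top (K := k) k'
  obtain ⟨e, -⟩ := exists_quotient_equiv k K P k'
  have hred : IsReduced (P ⊗[k'] ((k' ⊗[k] K) ⧸ nilradical (k' ⊗[k] K))) := inferInstance
  have hred' : IsReduced ((P ⊗[k] K) ⧸
      Ideal.map (natMap k K P k') (nilradical (k' ⊗[k] K))) :=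
    isReduced_of_injective e.symm.toAlgHom e.symm.injective
  have hJrad : nilradical (P ⊗[k] K) ≤
      Ideal.map (natMap k K P k') (nilradical (k' ⊗[k] K)) := by
    intro z hz
    obtain ⟨n, hn⟩ := mem_nilradical.mp hz
    have h1 : IsNilpotent (Ideal.Quotient.mk
        (Ideal.map (natMap k K P k') (nilradical (k' ⊗[k] K))) z) :=
      ⟨n, by rw [← map_pow, hn, map_zero]⟩
    exact Ideal.Quotient.eq_zero_iff_mem.mp h1.eq_zero
  have hJ : nilradical (P ⊗[k] K) =
      Ideal.map (natMap k K P k') (nilradical (k' ⊗[k] K)) :=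
    le_antisymm hJrad (map_natMap_nilradical_le k K P k')
  have hCnoeth : IsNoetherianRing (k' ⊗[k] K) := by
    have : IsNoetherianRing (K ⊗[k] k') := Algebra.FiniteType.isNoetherianRing K _
    exact isNoetherianRing_of_ringEquiv _ (Algebra.TensorProduct.comm k K k').toRingEquiv
  have hFG : (nilradical (P ⊗[k] K)).FG := by
    rw [hJ]
    exact Ideal.FG.map (IsNoetherian.noetherian _) _
  have hmax : (nilradical (P ⊗[k] K)).IsMaximal := nilradical_isMaximal k P K
  have hprime : ∀ I : Ideal (P ⊗[k] K), I.IsPrime → I = nilradical (P ⊗[k] K) :=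
    fun I hI => (hmax.eq_of_le hI.ne_top (nilradical_le_prime I)).symm
  have h1 : IsNoetherianRing (P ⊗[k] K) := IsNoetherianRing.of_prime fun I hI => by
    rw [hprime I hI]
    exact hFG
  have h2 : Ring.KrullDimLE 0 (P ⊗[k] K) := Ring.krullDimLE_zero_iff.mpr fun I hI => by
    rw [hprime I hI]
    exact hmax
  exact isArtinianRing_iff_isNoetherianRing_krullDimLE_zero.mpr ⟨h1, h2⟩

end Key

section Main

variable (k K P : Type u) [Field k] [Field K] [Algebra k K]
  [Field P] [Algebra k P] [IsPurelyInseparable k P] [PerfectField P]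

set_option maxHeartbeats 1000000 in
/-- If `P ⊗ K` is Noetherian, some finite purely inseparable `k'` makes the residue field of
`k' ⊗ K` geometrically reduced. -/
theorem exists_of_isNoetherianRing [IsNoetherianRing (P ⊗[k] K)] :
    ∃ (k' : Type u) (_ : Field k') (_ : Algebra k k'),
      Module.Finite k k' ∧ IsPurelyInseparable k k' ∧
        Algebra.IsGeometricallyReduced k' ((k' ⊗[k] K) ⧸ nilradical (k' ⊗[k] K)) := by
  obtain ⟨s, hs⟩ := IsNoetherian.noetherian (nilradical (P ⊗[k] K))
  obtain ⟨t, ht⟩ := exists_subset_range_adjMap k K P s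
  have halg : Algebra.IsAlgebraic k P := inferInstance
  have hfin : FiniteDimensional k (IntermediateField.adjoin k (t : Set P)) :=
    IntermediateField.finiteDimensional_adjoin fun x _ => Algebra.IsIntegral.isIntegral x
  have hpi : IsPurelyInseparable k (IntermediateField.adjoin k (t : Set P)) :=
    IsPurelyInseparable.tower_bot k _ P
  refine ⟨IntermediateField.adjoin k (t : Set P), inferInstance, inferInstance, hfin, hpi, ?_⟩
  refine isGeometricallyReduced_quotient_nilradical k K P
    (IntermediateField.adjoin k (t : Set P)) ?_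
  rw [← hs, Ideal.submodule_span_eq, Ideal.span_le]
  intro b hb
  obtain ⟨z, hz⟩ := ht hb
  have hbN : IsNilpotent b := by
    have : b ∈ nilradical (P ⊗[k] K) := by
      rw [← hs]
      exact Submodule.subset_span hb
    exact mem_nilradical.mp this
  have hnat : natMap k K P (IntermediateField.adjoin k (t : Set P)) z = b := hz
  have hzN : IsNilpotent z := by
    rw [← hnat] at hbN
    exact (IsNilpotent.map_iff
      (natMap_injective k K P (IntermediateField.adjoin k (t : Set P)))).mp hbN
  rw [← hnat]
  exact Ideal.mem_map_of_mem _ (mem_nilradical.mpr hzN)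

end Main

end Groth.Agent.Lib.Helper6.Normal
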