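import Mathlib
import Groth.Prelude.Def_EGA4b
import Groth.Prelude.Def_Pi1
import Groth.Agent.Lib.Helper6.Normal.SchemeBC
import Groth.Agent.Lib.Helper6.Normal.InsepNormal

/-!
# Normal schemes over a field: finite purely inseparable base changes suffice
-/

open CategoryTheory AlgebraicGeometry Limits TensorProduct

namespace Groth.Agent.Lib.Helper6.Normal

universe u

set_option maxHeartbeats 1000000 in
theorem isNormalScheme_pullback_of_forall_insep (k : Type u) [Field k] {X : Scheme.{u}}
    (s : X ⟶ Spec (CommRingCat.of k))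
    (h : ∀ (k' : Type u) [Field k'] [Algebra k k'] [FiniteDimensional k k']
      [IsPurelyInseparable k k'],
      Pi1.IsNormalScheme (pullback s (Spec.map (CommRingCat.ofHom (algebraMap k k')))))
    (K : Type u) [Field K] [Algebra k K] :
    Pi1.IsNormalScheme (pullback s (Spec.map (CommRingCat.ofHom (algebraMap k K)))) := by
  let 𝒜 := X.affineOpenCover
  refine isNormalScheme_of_openCover (𝒜.openCover.pullback₂
    (pullback.fst s (Spec.map (CommRingCat.ofHom (algebraMap k K))))) fun i => ?_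
  change Pi1.IsNormalScheme (pullback (𝒜.f i)
    (pullback.fst s (Spec.map (CommRingCat.ofHom (algebraMap k K)))))
  obtain ⟨φ, hφ⟩ := Spec.map_surjective (𝒜.f i ≫ s)
  let _ : Algebra k (𝒜.X i) := φ.hom.toAlgebra
  -- the chart isomorphism for any field
  have chart : ∀ (L : Type u) [Field L] [Algebra k L],
      Nonempty (pullback (𝒜.f i) (pullback.fst s (Spec.map (CommRingCat.ofHom (algebraMap k L)))) ≅
        Spec (CommRingCat.of ((𝒜.X i) ⊗[k] L))) := by
    intro L _ _
    let g := Spec.map (CommRingCat.ofHom (algebraMap k L))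
    let e1 : pullback (𝒜.f i) (pullback.fst s g) ≅ pullback (𝒜.f i ≫ s) g :=
      pullbackRightPullbackFstIso s g (𝒜.f i)
    let e2 : pullback (𝒜.f i ≫ s) g ≅
        pullback (Spec.map (CommRingCat.ofHom (algebraMap k (𝒜.X i)))) g :=
      pullback.congrHom hφ.symm rfl
    let e3 : pullback (Spec.map (CommRingCat.ofHom (algebraMap k (𝒜.X i)))) g ≅
        Spec (CommRingCat.of ((𝒜.X i) ⊗[k] L)) := pullbackSpecIso k (𝒜.X i) L
    exact ⟨e1 ≪≫ e2 ≪≫ e3⟩
  have hk' : ∀ (k' : Type u) [Field k'] [Algebra k k'], Module.Finite k k' →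
      IsPurelyInseparable k k' → EGA4.IsNormalRing (k' ⊗[k] (𝒜.X i)) := by
    intro k' _ _ hfin hpi
    have h1 := h k'
    have h2 : Pi1.IsNormalScheme (pullback (𝒜.f i)
        (pullback.fst s (Spec.map (CommRingCat.ofHom (algebraMap k k'))))) :=
      isNormalScheme_of_isOpenImmersion (pullback.snd _ _) h1
    obtain ⟨e⟩ := chart k'
    have h3 : Pi1.IsNormalScheme (Spec (CommRingCat.of ((𝒜.X i) ⊗[k] k'))) :=
      isNormalScheme_of_isOpenImmersion e.inv h2
    have h4 : EGA4.IsNormalRing ((𝒜.X i) ⊗[k] k') := (isNormalScheme_Spec_iff _).mp h3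
    exact isNormalRing_of_ringEquiv (Algebra.TensorProduct.comm k (𝒜.X i) k').toRingEquiv h4
  have hK : EGA4.IsNormalRing (K ⊗[k] (𝒜.X i)) :=
    isNormalRing_tensor_of_forall_insep k (𝒜.X i) hk' K
  have hN : EGA4.IsNormalRing ((𝒜.X i) ⊗[k] K) :=
    isNormalRing_of_ringEquiv (Algebra.TensorProduct.comm k K (𝒜.X i)).toRingEquiv hK
  have hS : Pi1.IsNormalScheme (Spec (CommRingCat.of ((𝒜.X i) ⊗[k] K))) :=
    (isNormalScheme_Spec_iff _).mpr hN
  obtain ⟨e⟩ := chart K
  exact isNormalScheme_of_isOpenImmersion e.hom hS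

end Groth.Agent.Lib.Helper6.Normal
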