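import Mathlib
import Groth.Prelude.Def_Pi1
import Groth.Agent.Lib.Helper6.Normal.FEtOpen

/-!
# Rational maps from a normal integral scheme into an integral `X`-scheme
-/

open CategoryTheory CategoryTheory.Limits AlgebraicGeometry

namespace Groth.Agent.Lib.Helper6.Normal

universe u

theorem exists_extend_ratMap {Y X X' : Scheme.{u}} [IsIntegral Y]
    (hY : Pi1.IsNormalScheme Y) (g : X' ⟶ X) [IsIntegralHom g] (U : Y.Opens)
    (hU : (U : Set Y).Nonempty)
    (f : (U : Scheme.{u}) ⟶ X') (h : Y ⟶ X) (hfh : f ≫ g = U.ι ≫ h) :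
    ∃ f' : Y ⟶ X', U.ι ≫ f' = f ∧ f' ≫ g = h := by
  have hη := genericPoint_mem_of_nonempty U hU
  have : Nonempty U := ⟨⟨_, hη⟩⟩
  obtain ⟨gU, hgU⟩ : ∃ gU, gU = U.fromSpecStalkOfMem (genericPoint Y) hη := ⟨_, rfl⟩
  obtain ⟨gY, hgY⟩ : ∃ gY, gY = Y.fromSpecStalk (genericPoint Y) := ⟨_, rfl⟩
  have hgUY : gU ≫ U.ι = gY := by rw [hgU, hgY]; exact U.fromSpecStalkOfMem_ι _ hη
  have hdom : IsDominant gU := by rw [hgU]; exact isDominant_fromSpecStalkOfMem U hη
  have hsd : IsSchemeTheoreticallyDominant gU := .of_isDominant _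
  have hsep : IsSeparated g := inferInstance
  -- θ
  have hθc : (pullback.snd (𝟙 Y) gY ≫ gU ≫ f) ≫ g = pullback.fst (𝟙 Y) gY ≫ h := by
    rw [Category.assoc, Category.assoc, hfh, ← Category.assoc gU, hgUY, ← Category.assoc,
      ← pullback.condition, Category.assoc, Category.id_comp]
  have hθ : pullback.lift _ _ hθc ≫ pullback.snd g h = pullback.fst (𝟙 Y) gY ≫ 𝟙 Y := by
    rw [pullback.lift_snd, Category.comp_id]
  subst hgY
  obtain ⟨φ, hφ1, hφ2⟩ := exists_extend_generic hY (𝟙 Y) (pullback.snd g h)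
    (pullback.lift _ _ hθc) hθ
  refine ⟨φ ≫ pullback.fst g h, ?_, ?_⟩
  · refine GenFib.ext_of_isSchemeTheoreticallyDominant gU g ?_ ?_
    · rw [Category.assoc, Category.assoc, pullback.condition, ← Category.assoc φ, hφ1,
        Category.id_comp, hfh]
    · have hs : Y.fromSpecStalk (genericPoint Y) ≫ 𝟙 Y =
          𝟙 _ ≫ Y.fromSpecStalk (genericPoint Y) := by simp
      have h1 : Y.fromSpecStalk (genericPoint Y) =
          pullback.lift _ _ hs ≫ pullback.fst (𝟙 Y) (Y.fromSpecStalk (genericPoint Y)) :=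
        (pullback.lift_fst _ _ hs).symm
      calc gU ≫ U.ι ≫ φ ≫ pullback.fst g h
          = Y.fromSpecStalk (genericPoint Y) ≫ φ ≫ pullback.fst g h := by
            rw [← Category.assoc, hgUY]
        _ = pullback.lift _ _ hs ≫ (pullback.fst (𝟙 Y) _ ≫ φ) ≫ pullback.fst g h := by
            conv_lhs => rw [h1]
            simp only [Category.assoc]
        _ = pullback.lift _ _ hs ≫ pullback.lift _ _ hθc ≫ pullback.fst g h := by
            rw [hφ2]
        _ = (pullback.lift _ _ hs ≫ pullback.snd (𝟙 Y) _) ≫ gU ≫ f := by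
            rw [pullback.lift_fst]; simp only [Category.assoc]
        _ = gU ≫ f := by rw [pullback.lift_snd, Category.id_comp]
  · rw [Category.assoc, pullback.condition, ← Category.assoc, hφ1, Category.id_comp]

end Groth.Agent.Lib.Helper6.Normal
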